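import Cfsg.Agent.Lib.JankoFour.Centraliser.Local
import Cfsg.Agent.Lib.JankoFour.Thompson.Six
import Cfsg.Agent.Lib.Invol.ZStarFinal
import Cfsg.Agent.Lib.Invol.Isolated
import Cfsg.Agent.Lib.Cores.Basic
import Cfsg.Agent.Lib.Golay.Spor
import Cfsg.Agent.Lib.LocalEven.CoprimeGeneration

/-!
# Groups of Janko-four type: the normaliser of the subgroup of order three over the scalars

The involution `z` is isolated in the centraliser of that subgroup, so by the Z*-theorem and generation by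
centralisers under a four-group the centraliser lies in `C(z)`.
-/

set_option autoImplicit false
set_option linter.unusedSectionVars false

namespace CfsgLib.JankoFour.Thompson

open Subgroup
open CfsgLib.LargeFischer.Thompson (val three_dvd)
open scoped commutatorElement

variable {G : Type*} [Group G] [Finite G] {z : G}
  {Q : Subgroup (centralizer ({z} : Set G))} [Q.Normal] {V : Type*} [AddCommGroup V] [Module (ZMod 2) V]
  [DistribMulAction ((centralizer ({z} : Set G)) ⧸ Q) V] [Finite V] {q : QuadraticForm (ZMod 2) V} {π : ↥Q → V}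
  {n : (centralizer ({z} : Set G)) ⧸ Q} {M : Subgroup ((centralizer ({z} : Set G)) ⧸ Q)}
  {φ : ↥M →* ↥Cfsg.Spor.M22} {s : V} {A : Subgroup G} {Ab : Subgroup ((centralizer ({z} : Set G)) ⧸ Q)}

/-- The pair elements commuting with an element. -/
def SP (z : G) (A : Subgroup G) (w : G) : Set G := {b | b ∈ Ns z A ∧ b * w = w * b}

namespace Ctx

variable (c : Ctx Q q π n M φ s A Ab) {w : centralizer ({z} : Set G)} (hw : QuotientGroup.mk' Q w = n)
  (h3 : w * w * w = 1)
include c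

theorem z_ns {b : G} (hb : b ∈ A) (h1 : b ≠ 1) (h : b ∉ Ns z A) : IsConj z b := by
  by_contra hc
  exact h ⟨hb, h1, hc⟩

include hw

theorem w_mem_N : (w : G) ∈ Subgroup.normalizer (A : Set G) := c.mem_N_iff.2 (hw.symm ▸ c.n_normalizes)

theorem fixed_Q {u : ↥Q} (h : val u * (w : G) = (w : G) * val u) : val u = 1 ∨ val u = z := by
  refine (c.mdl.ker u).1 (c.oth.core.nfix _ ?_)
  rw [← hw]
  exact c.mdl.fixed_of_comm (Subtype.ext h.symm)

theorem mk_mem_M {y : centralizer ({z} : Set G)} (hy : y * w = w * y) : QuotientGroup.mk' Q y ∈ M := by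
  by_contra hk
  obtain ⟨l, hl⟩ := c.oth.core.outer
  set k := QuotientGroup.mk' Q y with hkdef
  have hkn : k * n = n * k := by rw [← hw, hkdef, ← map_mul, ← map_mul, hy]
  by_cases hlM : l ∈ M
  · exact hl (c.oth.core.commute l hlM)
  · have h1 : k⁻¹ * l ∈ M :=
      (Subgroup.mul_mem_iff_of_index_two c.oth.core.indexM).2 (iff_of_false (fun h' => hk (inv_mem_iff.1 h')) hlM)
    refine hl ?_
    have h2 := c.oth.core.commute _ h1
    calc l * n = k * ((k⁻¹ * l) * n) := by group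
      _ = k * n * (k⁻¹ * l) := by rw [h2, mul_assoc]
      _ = n * l := by rw [hkn]; group

include h3

theorem lift_comm {k : (centralizer ({z} : Set G)) ⧸ Q} (hk : k ∈ M) :
    ∃ y : centralizer ({z} : Set G), QuotientGroup.mk' Q y = k ∧ y * w = w * y := by
  obtain ⟨T, nt, d⟩ := c.exists_six
  exact c.comm_lift (nt := w) ⟨d.mem, d.cover, d.indep, hw, h3, d.perm⟩ hk

theorem coset_fixed {k : (centralizer ({z} : Set G)) ⧸ Q} (hk : k ∈ Ab) (hk1 : k ≠ 1) :
    ∃ b ∈ SP z A (w : G), imK Q b = k := by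
  classical
  have hwN := c.w_mem_N hw
  have hconj : ∀ a ∈ cosetN Q A k, (w : G) * a * (w : G)⁻¹ ∈ cosetN Q A k := fun a ha => by
    refine ⟨c.Ns_conj hwN ha.1, ?_⟩
    rw [c.imK_conj ha.1.1, hw, ha.2, ← c.oth.core.commute _ (c.oth.le hk), mul_inv_cancel_right]
  by_contra hc
  push Not at hc
  let σ : Equiv.Perm ↥(cosetN Q A k) := Equiv.ofBijective (fun a => ⟨_, hconj a.1 a.2⟩)
    (Finite.injective_iff_bijective.1 fun a a' e =>
      Subtype.ext (mul_left_cancel (mul_right_cancel (congrArg Subtype.val e))))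
  have hw3 : (w : G) * w * w = 1 := congrArg Subtype.val h3
  have hσ : σ ^ 3 = 1 := Equiv.ext fun a => Subtype.ext (by
    show (w : G) * ((w : G) * ((w : G) * a * (w : G)⁻¹) * (w : G)⁻¹) * (w : G)⁻¹ = a
    calc _ = ((w : G) * w * w) * a * ((w : G) * w * w)⁻¹ := by group
      _ = a := by rw [hw3]; group)
  have h := three_dvd σ hσ fun e he => hc e.1
    ⟨e.2.1, (mul_inv_eq_iff_eq_mul.1 (congrArg Subtype.val he)).symm⟩ e.2.2
  rw [Nat.card_coe_set_eq, c.cosetN_card hk hk1] at h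
  norm_num at h

theorem SP_ncard : 15 ≤ (SP z A (w : G)).ncard := by
  have hsub : ((Ab : Set ((centralizer ({z} : Set G)) ⧸ Q)) \ {1}) ⊆ imK Q '' SP z A (w : G) := fun k hk => by
    obtain ⟨b, hb, e⟩ := c.coset_fixed hw h3 hk.1 hk.2
    exact ⟨b, hb, e⟩
  have h := (Set.ncard_le_ncard hsub (Set.toFinite _)).trans (Set.ncard_image_le (Set.toFinite _))
  rw [Set.ncard_sdiff_singleton_of_mem (one_mem Ab), ← Nat.card_coe_set_eq] at h
  rw [SetLike.coe_sort_coe, show Nat.card ↥Ab = 16 from c.oth.card] at h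
  exact h

theorem SP_outer {b : G} (hb : b ∈ SP z A (w : G)) : ¬ ∃ u : ↥Q, val u = b := by
  rintro ⟨u, rfl⟩
  rcases c.fixed_Q hw hb.2 with e | e
  · exact hb.1.2.1 e
  · exact hb.1.2.2 (by rw [e])

theorem SP_z {b : G} (hb : b ∈ SP z A (w : G)) : IsConj z (b * z) := by
  refine c.z_ns (mul_mem hb.1.1 c.z_mem) (fun e => hb.1.2.2 ?_) ?_
  · rw [eq_inv_of_mul_eq_one_left e, inv_eq_of_mul_eq_one_left c.zz]
  · rw [c.comm hb.1.1 c.z_mem]
    exact c.no_z_pair hb.1 (c.SP_outer hw h3 hb)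

/-- The elements of `A` commuting with the element of order three. -/
theorem fixed_cases {a : G} (ha : a ∈ A) (hc : a * (w : G) = (w : G) * a) :
    a = 1 ∨ a = z ∨ ∃ b ∈ SP z A (w : G), a = b ∨ a = b * z := by
  by_cases h1 : imK Q a = 1
  · obtain ⟨u, rfl⟩ := (c.imK_eq_one ha).1 h1
    rcases c.fixed_Q hw hc with e | e
    exacts [Or.inl e, Or.inr (Or.inl e)]
  · obtain ⟨b, hb, hbk⟩ := c.coset_fixed hw h3 (c.imK_mem ha) h1
    refine Or.inr (Or.inr ⟨b, hb, ?_⟩)
    have hab : b * a ∈ A := mul_mem hb.1.1 ha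
    have hk2 : imK Q a * imK Q a = 1 := by
      rw [← pow_two]; exact c.oth.elem.2 _ (c.imK_mem ha)
    obtain ⟨u, hu⟩ := (c.imK_eq_one hab).1 (by rw [imK_mul (c.le hb.1.1) (c.le ha), hbk, hk2])
    have hbw : val u * (w : G) = (w : G) * val u := by
      rw [hu, mul_assoc, hc, ← mul_assoc, hb.2, mul_assoc]
    have e : a = b * val u := by rw [hu, ← mul_assoc, c.sq hb.1.1, one_mul]
    rcases c.fixed_Q hw hbw with e' | e'
    · exact Or.inl (by rw [e, e', mul_one])
    · exact Or.inr (by rw [e, e'])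

/-- Every pair element commuting with the element of order three has a disjoint one. -/
theorem exists_disjoint {b₀ : G} (hb₀ : b₀ ∈ SP z A (w : G)) :
    ∃ b ∈ SP z A (w : G), IsConj z (b₀ * b) := by
  classical
  by_contra hno
  simp only [not_exists, not_and] at hno
  obtain ⟨f, ψ, F⟩ := c.exists_frame
  obtain ⟨u, v, huv, rfl⟩ := F.cover b₀ hb₀.1.1 hb₀.1.2.1 hb₀.1.2.2
  have key : ∀ d e, d ≠ e → f d * f e ∈ SP z A (w : G) → d = u ∨ d = v ∨ e = u ∨ e = v := by
    intro d e hde hS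
    by_contra hc
    simp only [not_or] at hc
    exact hno _ hS (F.zs_of_disjoint (Ne.symm hc.1) (Ne.symm hc.2.2.1) (Ne.symm hc.2.1) (Ne.symm hc.2.2.2) huv hde)
  have huniq : ∀ x, x = u ∨ x = v → ∀ d e, d ≠ u → d ≠ v → e ≠ u → e ≠ v → f x * f d ∈ SP z A (w : G) →
      f x * f e ∈ SP z A (w : G) → d = e := by
    intro x hx d e hdu hdv heu hev hd he
    by_contra hde
    have hS : f d * f e ∈ SP z A (w : G) := by
      refine ⟨⟨F.pr d e, (F.pair d e hde).1, (F.pair d e hde).2⟩, ?_⟩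
      rw [← F.meet x d e, mul_assoc, he.2, ← mul_assoc, hd.2, mul_assoc]
    rcases key d e hde hS with h | h | h | h
    exacts [hdu h, hdv h, heu h, hev h]
  have hsub : ∀ x, ({y | y ∈ SP z A (w : G) ∧ ∃ d, d ≠ u ∧ d ≠ v ∧ f x * f d = y} : Set G).ncard ≤ 1 ∨
      ¬ (x = u ∨ x = v) := by
    intro x
    by_cases hx : x = u ∨ x = v
    · refine Or.inl ((Set.ncard_le_one (Set.toFinite _)).2 ?_)
      rintro _ ⟨h1, d, hdu, hdv, rfl⟩ _ ⟨h2, e, heu, hev, rfl⟩
      rw [huniq x hx d e hdu hdv heu hev h1 h2]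
    · exact Or.inr hx
  set Su := ({y | y ∈ SP z A (w : G) ∧ ∃ d, d ≠ u ∧ d ≠ v ∧ f u * f d = y} : Set G)
  set Sv := ({y | y ∈ SP z A (w : G) ∧ ∃ d, d ≠ u ∧ d ≠ v ∧ f v * f d = y} : Set G)
  have hcov : SP z A (w : G) ⊆ {f u * f v} ∪ Su ∪ Sv := by
    intro y hy
    obtain ⟨d, e, hde, rfl⟩ := F.cover y hy.1.1 hy.1.2.1 hy.1.2.2
    rcases key d e hde hy with rfl | rfl | rfl | rfl
    · by_cases h : e = v
      · exact Or.inl (Or.inl (h ▸ rfl))
      · exact Or.inl (Or.inr ⟨hy, e, hde.symm, h, rfl⟩)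
    · by_cases h : e = u
      · exact Or.inl (Or.inl (by rw [h, F.swap d u]; rfl))
      · exact Or.inr ⟨hy, e, h, hde.symm, rfl⟩
    · by_cases h : d = v
      · exact Or.inl (Or.inl (by rw [h, F.swap v e]; rfl))
      · exact Or.inl (Or.inr ⟨hy, d, hde, h, F.swap e d⟩)
    · by_cases h : d = u
      · exact Or.inl (Or.inl (by rw [h]; rfl))
      · exact Or.inr ⟨hy, d, h, hde, F.swap e d⟩
  have h := (Set.ncard_le_ncard hcov (Set.toFinite _)).trans
    ((Set.ncard_union_le _ _).trans (Nat.add_le_add_right (Set.ncard_union_le _ _) _))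
  rw [Set.ncard_singleton] at h
  have hu := (hsub u).resolve_right (fun h' => h' (Or.inl rfl))
  have hv := (hsub v).resolve_right (fun h' => h' (Or.inr rfl))
  have h15 := c.SP_ncard hw h3
  change Su.ncard ≤ 1 at hu
  change Sv.ncard ≤ 1 at hv
  omega

/-- Two pair elements commuting with the element of order three have a common point. -/
theorem exists_meet : ∃ b ∈ SP z A (w : G), ∃ b' ∈ SP z A (w : G), b * b' ∈ Ns z A := by
  classical
  letI := Fintype.ofFinite G
  by_contra hno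
  simp only [not_exists, not_and] at hno
  obtain ⟨f, ψ, F⟩ := c.exists_frame
  have hch : ∀ b : ↥(SP z A (w : G)), ∃ P : Finset Cfsg.GolayPt, ∃ d e, d ≠ e ∧ P = {d, e} ∧ f d * f e = b := by
    intro b
    obtain ⟨d, e, hde, he⟩ := F.cover b b.2.1.1 b.2.1.2.1 b.2.1.2.2
    exact ⟨{d, e}, d, e, hde, rfl, he⟩
  choose P d e hde hP hval using hch
  have hmeet : ∀ {x y y' : Cfsg.GolayPt}, y ≠ y' → f x * f y ∈ SP z A (w : G) → f x * f y' ∈ SP z A (w : G) → False :=
    fun {x y y'} hne h h' => hno _ h _ h' ⟨mul_mem h.1.1 h'.1.1,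
      F.meet x y y' ▸ (F.pair y y' hne).1, F.meet x y y' ▸ (F.pair y y' hne).2⟩
  have hdis : ∀ b b', b ≠ b' → Disjoint (P b) (P b') := by
    intro b b' hne
    rw [Finset.disjoint_left]
    intro x hx hx'
    rw [hP] at hx hx'
    simp only [Finset.mem_insert, Finset.mem_singleton] at hx hx'
    obtain ⟨y, hy⟩ : ∃ y, f x * f y = b := by
      rcases hx with rfl | rfl
      exacts [⟨_, hval b⟩, ⟨_, (F.swap _ _).trans (hval b)⟩]
    obtain ⟨y', hy'⟩ : ∃ y, f x * f y = b' := by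
      rcases hx' with rfl | rfl
      exacts [⟨_, hval b'⟩, ⟨_, (F.swap _ _).trans (hval b')⟩]
    refine hmeet (x := x) (y := y) (y' := y') (fun h => hne (Subtype.ext ?_)) (hy ▸ b.2) (hy' ▸ b'.2)
    rw [← hy, ← hy', h]
  letI := Fintype.ofFinite ↥(SP z A (w : G))
  have hcard := Finset.card_le_univ (Finset.univ.biUnion P)
  rw [Finset.card_biUnion (fun b _ b' _ hne => hdis b b' hne),
    Finset.sum_const_nat (m := 2) (fun b _ => by rw [hP]; exact Finset.card_pair (hde b)), Finset.card_univ,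
    show Fintype.card Cfsg.GolayPt = 24 by decide, ← Nat.card_eq_fintype_card, Nat.card_coe_set_eq] at hcard
  have := c.SP_ncard hw h3
  omega

/-- The involution `z` is isolated in the centraliser of the element of order three. -/
theorem isolated {g : G} (hg : g * (w : G) = (w : G) * g) (hc : g * z * g⁻¹ * z = z * (g * z * g⁻¹)) :
    g * z * g⁻¹ = z := by
  classical
  set x := g * z * g⁻¹ with hx
  have hxw : x * (w : G) = (w : G) * x :=
    (((show Commute g (w : G) from hg).mul_left (c.comm_z w).symm).mul_left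
      (show Commute g (w : G) from hg).inv_left).eq
  set xh : centralizer ({z} : Set G) := ⟨x, mem_centralizer_singleton_iff.2 hc⟩
  have hxx : x * x = 1 := by
    calc x * x = g * (z * z) * g⁻¹ := by rw [hx]; group
      _ = 1 := by rw [c.zz]; group
  -- move it into `A`
  obtain ⟨y, hyw, hyA⟩ : ∃ y : centralizer ({z} : Set G), y * w = w * y ∧ (y : G) * x * (y : G)⁻¹ ∈ A := by
    by_cases hk1 : QuotientGroup.mk' Q xh = 1
    · refine ⟨1, by simp, ?_⟩
      obtain ⟨u, hu⟩ : ∃ u : ↥Q, val u = x := ⟨⟨xh, (QuotientGroup.eq_one_iff _).1 hk1⟩, rfl⟩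
      rcases c.fixed_Q hw (u := u) (hu.symm ▸ hxw) with e | e <;> rw [hu] at e <;>
        simp [e, c.z_mem]
    · obtain ⟨y₀, hy₀, hk⟩ := c.mdl.facts.inv_conj s Ab c.oth.hex _ (c.mk_mem_M hw (y := xh) (Subtype.ext hxw))
        (by rw [← map_mul, show xh * xh = 1 from Subtype.ext hxx, map_one]) hk1
      obtain ⟨y, rfl, hyw⟩ := c.lift_comm hw h3 hy₀
      refine ⟨y, hyw, ?_⟩
      set x' := (y : G) * x * (y : G)⁻¹ with hx'
      have himg : imK Q x' = QuotientGroup.mk' Q y * QuotientGroup.mk' Q xh * (QuotientGroup.mk' Q y)⁻¹ := by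
        rw [show x' = ((y * xh * y⁻¹ : centralizer ({z} : Set G)) : G) from rfl, imK_coe, map_mul, map_mul, map_inv]
      have hk1' : imK Q x' ≠ 1 := fun e => hk1 (by rwa [himg, conj_eq_one_iff] at e)
      obtain ⟨b, hb, hbk⟩ := c.coset_fixed hw h3 (k := imK Q x') (himg ▸ hk) hk1'
      have hxc : x' ∈ centralizer ({z} : Set G) := (y * xh * y⁻¹).2
      obtain ⟨u, hu⟩ : ∃ u : ↥Q, val u = b * x' := by
        refine ⟨⟨⟨b * x', mul_mem (c.le hb.1.1) hxc⟩, (QuotientGroup.eq_one_iff _).1 ?_⟩, rfl⟩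
        show QuotientGroup.mk' Q _ = 1
        rw [← imK_eq (mul_mem (c.le hb.1.1) hxc), imK_mul (c.le hb.1.1) hxc, hbk, ← pow_two]
        exact c.oth.elem.2 _ (himg ▸ hk)
      have hx'w : x' * (w : G) = (w : G) * x' := by
        have hy' : Commute (y : G) (w : G) := congrArg Subtype.val hyw
        exact ((hy'.mul_left hxw).mul_left hy'.inv_left).eq
      have huw : val u * (w : G) = (w : G) * val u := by
        rw [hu, mul_assoc, hx'w, ← mul_assoc, hb.2, mul_assoc]
      have e : x' = b * val u := by rw [hu, ← mul_assoc, c.sq hb.1.1, one_mul]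
      rcases c.fixed_Q hw huw with e' | e' <;> rw [e, e']
      · rw [mul_one]; exact hb.1.1
      · exact mul_mem hb.1.1 c.z_mem
  -- it is `z` there
  suffices h : (y : G) * x * (y : G)⁻¹ = z by
    calc x = (y : G)⁻¹ * ((y : G) * x * (y : G)⁻¹) * y := by group
      _ = z := by rw [h, mul_assoc, ← c.comm_z y, inv_mul_cancel_left]
  have hyw' : Commute (y : G) (w : G) := congrArg Subtype.val hyw
  set g' := (y : G) * g with hg'
  have hg'w : g' * (w : G) = (w : G) * g' := (hyw'.mul_left hg).eq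
  have hxeq : (y : G) * x * (y : G)⁻¹ = g' * z * g'⁻¹ := by rw [hx, hg']; group
  rw [hxeq] at hyA ⊢
  set x' := g' * z * g'⁻¹ with hx'def
  have hx'w : x' * (w : G) = (w : G) * x' :=
    (((show Commute g' (w : G) from hg'w).mul_left (c.comm_z w).symm).mul_left
      (show Commute g' (w : G) from hg'w).inv_left).eq
  have hconj : IsConj z x' := isConj_iff.2 ⟨g', rfl⟩
  rcases c.fixed_cases hw h3 hyA hx'w with e | e | ⟨b₀, hb₀, e | e⟩
  · exact absurd (e ▸ hconj) c.not_isConj_one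
  · exact e
  · exact absurd (e ▸ hconj) hb₀.1.2.2
  exfalso
  -- the pair element `b₁` with `x' * b₁` a pair element
  obtain ⟨b, hb, hbb⟩ := c.exists_disjoint hw h3 hb₀
  have hpc : b₀ * b * (w : G) = (w : G) * (b₀ * b) := ((show Commute b₀ (w : G) from hb₀.2).mul_left hb.2).eq
  obtain ⟨b₁, hb₁, hb₁e⟩ : ∃ b₁ ∈ SP z A (w : G), b₀ * b = b₁ * z := by
    rcases c.fixed_cases hw h3 (mul_mem hb₀.1.1 hb.1.1) hpc with e1 | e1 | ⟨b₁, hb₁, e1 | e1⟩
    · exact absurd (e1 ▸ hbb) c.not_isConj_one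
    · refine absurd ?_ hb.1.2.2
      rw [show b = b₀ * z by rw [← e1, ← mul_assoc, c.sq hb₀.1.1, one_mul]]
      exact c.SP_z hw h3 hb₀
    · exact absurd (e1 ▸ hbb) hb₁.1.2.2
    · exact ⟨b₁, hb₁, e1⟩
  have hxb : x' * b = b₁ := by
    rw [e, c.comm hb₀.1.1 c.z_mem, mul_assoc, hb₁e, c.comm hb₁.1.1 c.z_mem, ← mul_assoc, c.zz, one_mul]
  -- transport to `z`
  obtain ⟨m, hm, hme⟩ := c.fusion c.z_mem (g := g') hyA
  rw [← hx'def] at hme
  set b' := m⁻¹ * b * m with hb'
  have hb'N : b' ∈ Ns z A := by simpa using c.Ns_conj (inv_mem hm) hb.1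
  have hzb' : z * b' ∈ Ns z A := by
    have e2 : z * b' = m⁻¹ * b₁ * m := by rw [← hxb, ← hme, hb']; group
    rw [e2]
    simpa using c.Ns_conj (inv_mem hm) hb₁.1
  obtain ⟨u, hu⟩ : ∃ u : ↥Q, val u = b' := by
    by_contra ho
    exact c.no_z_pair hb'N ho hzb'
  have hh : g'⁻¹ * m ∈ centralizer ({z} : Set G) := mem_centralizer_singleton_iff.2 (by
    calc g'⁻¹ * m * z = g'⁻¹ * (m * z * m⁻¹) * m := by group
      _ = z * (g'⁻¹ * m) := by rw [hme, hx'def]; group)
  set h₀ : centralizer ({z} : Set G) := ⟨g'⁻¹ * m, hh⟩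
  set k := QuotientGroup.mk' Q h₀ with hk
  have hcomm : ((h₀⁻¹ * w * h₀ : centralizer ({z} : Set G)) : G) * b' = b' * ((h₀⁻¹ * w * h₀ : centralizer ({z} : Set G)) : G) := by
    have e3 : ((h₀⁻¹ * w * h₀ : centralizer ({z} : Set G)) : G) = m⁻¹ * (w : G) * m := by
      show (g'⁻¹ * m)⁻¹ * (w : G) * (g'⁻¹ * m) = m⁻¹ * (w : G) * m
      calc (g'⁻¹ * m)⁻¹ * (w : G) * (g'⁻¹ * m) = m⁻¹ * (g' * (w : G)) * (g'⁻¹ * m) := by group
        _ = _ := by rw [hg'w]; group
    rw [e3, hb']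
    calc m⁻¹ * (w : G) * m * (m⁻¹ * b * m) = m⁻¹ * ((w : G) * b) * m := by group
      _ = m⁻¹ * b * m * (m⁻¹ * (w : G) * m) := by rw [← hb.2]; group
  rw [← hu] at hcomm
  have hfix : (k⁻¹ * n * k) • π u = π u := by
    rw [← hw, hk, ← map_inv, ← map_mul, ← map_mul]
    exact c.mdl.fixed_of_comm (Subtype.ext hcomm)
  have hn0 : n • π u = π u := by
    rcases c.oth.core.zn_cases (show k⁻¹ * n * k ∈ zpowers n by simpa using c.oth.core.normal k⁻¹) with e4 | e4 | e4
    · exfalso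
      refine c.oth.core.n_ne ?_
      calc n = k * (k⁻¹ * n * k) * k⁻¹ := by group
        _ = 1 := by rw [e4]; group
    · rwa [e4] at hfix
    · rw [e4, mul_smul] at hfix
      conv_lhs => rw [← hfix]
      exact c.oth.core.smul_n_three _
  rcases (c.mdl.ker u).1 (c.oth.core.nfix _ hn0) with e5 | e5
  · exact hb'N.2.1 (hu ▸ e5)
  · exact hb'N.2.2 (by rw [← hu]; show IsConj z (val u); rw [show val u = z from e5])

/-- The centraliser of the element of order three lies in the centraliser of `z`. -/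
theorem centralizer_three_le : centralizer ({(w : G)} : Set G) ≤ centralizer ({z} : Set G) := by
  classical
  haveI := Fact.mk Nat.prime_two
  set C := centralizer ({(w : G)} : Set G)
  have hzC : z ∈ C := mem_centralizer_singleton_iff.2 (c.comm_z w).symm
  set zz : ↥C := ⟨z, hzC⟩
  have hiso : Cfsg.IsIsolatedInvolution zz := by
    refine ⟨by rw [Subgroup.orderOf_mk]; exact c.mdl.ordz, fun g hg => Subtype.ext ?_⟩
    exact c.isolated hw h3 (mem_centralizer_singleton_iff.1 g.2) (congrArg Subtype.val hg.eq).symm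
  set O := Cfsg.oddCore ↥C
  set W := O.map C.subtype with hW
  have hOodd : Odd (Nat.card ↥W) := by
    rw [hW, card_map_of_injective (subtype_injective _)]
    exact CfsgLib.Cores.odd_card_oddCore
  have hOn : O.Normal := by
    have := CfsgLib.Cores.pPrimeCore_characteristic (G := ↥C) 2
    infer_instance
  have hWn : ∀ {a : G}, a ∈ C → ∀ {y : G}, y ∈ W → a * y * a⁻¹ ∈ W := by
    rintro a ha _ ⟨y, hy, rfl⟩
    exact ⟨⟨a, ha⟩ * y * ⟨a, ha⟩⁻¹, hOn.conj_mem y hy ⟨a, ha⟩, rfl⟩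
  obtain ⟨b, hb, b', hb', hbb'⟩ := c.exists_meet hw h3
  have hbb : b * b' ∈ SP z A (w : G) := ⟨hbb', ((show Commute b (w : G) from hb.2).mul_left hb'.2).eq⟩
  have hnorm : ∀ a ∈ SP z A (w : G), a ∈ Subgroup.normalizer (W : Set G) := by
    intro a ha
    have haC : a ∈ C := mem_centralizer_singleton_iff.2 ha.2
    refine mem_normalizer_iff.2 fun y => ⟨fun hy => hWn haC hy, fun hy => ?_⟩
    have := hWn (inv_mem haC) hy
    simpa [mul_assoc] using this
  have hline : ∀ a ∈ SP z A (w : G), W ⊓ centralizer ({a} : Set G) ≤ centralizer ({z} : Set G) := by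
    rintro a ha y ⟨hy, hya⟩
    have hyN := c.centralizer_pair_le ha.1 hya
    refine mem_centralizer_singleton_iff.2 ?_
    have h1 : y * z * y⁻¹ * z⁻¹ ∈ A ⊓ W := by
      refine ⟨A.mul_mem (c.conj_mem hyN c.z_mem) (A.inv_mem c.z_mem), ?_⟩
      rw [show y * z * y⁻¹ * z⁻¹ = y * (z * y⁻¹ * z⁻¹) by group]
      exact mul_mem hy (hWn hzC (inv_mem hy))
    have h2 : A ⊓ W = ⊥ := inf_eq_bot_of_coprime (by
      rw [c.card]
      exact Nat.Coprime.pow_left _ (Nat.coprime_two_left.2 hOodd))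
    rw [h2, mem_bot] at h1
    calc y * z = y * z * y⁻¹ * z⁻¹ * (z * y) := by group
      _ = z * y := by rw [h1, one_mul]
  have hsq : ∀ a ∈ SP z A (w : G), a ^ 2 = 1 := fun a ha => by rw [pow_two]; exact c.sq ha.1.1
  have hWz : W ≤ centralizer ({z} : Set G) := by
    refine CfsgLib.LocalEven.le_of_line_centralizers (p := 2) (hsq b hb) (hsq b' hb')
      (c.comm hb.1.1 hb'.1.1) (Nat.coprime_two_right.2 hOodd) (hnorm b hb) (hnorm b' hb') (hline b hb) fun i => ?_
    rcases Nat.even_or_odd i with ⟨j, hj⟩ | ⟨j, hj⟩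
    · rw [hj, ← two_mul, pow_mul, hsq b hb, one_pow, mul_one]
      exact hline b' hb'
    · rw [hj, pow_succ, pow_mul, hsq b hb, one_pow, one_mul, c.comm hb'.1.1 hb.1.1]
      exact hline _ hbb
  intro g hg
  set g' : ↥C := ⟨g, hg⟩
  have hd : z * g * z⁻¹ * g⁻¹ ∈ W := ⟨_, CfsgLib.Invol.zstar hiso g', rfl⟩
  set d := z * g * z⁻¹ * g⁻¹
  have hdz : d * z = z * d := mem_centralizer_singleton_iff.1 (hWz hd)
  have hzi : z⁻¹ = z := inv_eq_of_mul_eq_one_left c.zz
  have hinv : z * d * z⁻¹ = d⁻¹ := by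
    simp only [d]
    rw [hzi]
    simp only [mul_inv_rev, inv_inv, hzi]
    calc z * (z * g * z * g⁻¹) * z = (z * z) * (g * z * g⁻¹ * z) := by group
      _ = g * (z * (g⁻¹ * z)) := by rw [c.zz, one_mul]; group
  rw [← hdz, mul_inv_cancel_right] at hinv
  have hd2 : d ^ 2 = 1 := by rw [pow_two]; nth_rw 2 [hinv]; exact mul_inv_cancel d
  have hd1 : d = 1 := by
    have h := orderOf_dvd_of_pow_eq_one hd2
    have h' : orderOf d ∣ Nat.card ↥W := by
      rw [← Subgroup.orderOf_mk d hd]; exact _root_.orderOf_dvd_natCard _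
    exact orderOf_eq_one_iff.1 (Nat.eq_one_of_dvd_coprimes (Nat.coprime_two_left.2 hOodd) h h')
  refine mem_centralizer_singleton_iff.2 ?_
  have e : z * g * z⁻¹ = g := mul_inv_eq_one.1 hd1
  conv_lhs => rw [← e, inv_mul_cancel_right]

/-- The normaliser of the subgroup of order three lies in the centraliser of `z`. -/
theorem normalizer_three_le : Subgroup.normalizer (zpowers (w : G) : Set G) ≤ centralizer ({z} : Set G) := by
  classical
  intro g hg
  have hC := c.centralizer_three_le hw h3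
  have hmapC : ∀ y, y * (w : G) = (w : G) * y → (g * y * g⁻¹) * (w : G) = (w : G) * (g * y * g⁻¹) := by
    intro y hy
    have h1 : g⁻¹ * (w : G) * g ∈ zpowers (w : G) := by
      have := (mem_normalizer_iff.1 (inv_mem hg) (w : G)).1 (mem_zpowers _)
      simpa using this
    obtain ⟨i, hi⟩ := h1
    have hyi : y * (g⁻¹ * (w : G) * g) = g⁻¹ * (w : G) * g * y := by
      rw [← hi]
      exact ((show Commute y (w : G) from hy).zpow_right i).eq
    calc g * y * g⁻¹ * (w : G) = g * (y * (g⁻¹ * (w : G) * g)) * g⁻¹ := by group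
      _ = (w : G) * (g * y * g⁻¹) := by rw [hyi]; group
  set x := g * z * g⁻¹ with hx
  have hxw := hmapC z (c.comm_z w).symm
  have hxC : ∀ y, y * (w : G) = (w : G) * y → x * y = y * x := by
    intro y hy
    have hy' : (g⁻¹ * y * g) * (w : G) = (w : G) * (g⁻¹ * y * g) := by
      have h1 : g * (w : G) * g⁻¹ ∈ zpowers (w : G) := (mem_normalizer_iff.1 hg (w : G)).1 (mem_zpowers _)
      obtain ⟨i, hi⟩ := h1
      have hyi : y * (g * (w : G) * g⁻¹) = g * (w : G) * g⁻¹ * y := by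
        rw [← hi]
        exact ((show Commute y (w : G) from hy).zpow_right i).eq
      calc g⁻¹ * y * g * (w : G) = g⁻¹ * (y * (g * (w : G) * g⁻¹)) * g := by group
        _ = (w : G) * (g⁻¹ * y * g) := by rw [hyi]; group
    have h2 := mem_centralizer_singleton_iff.1 (hC (mem_centralizer_singleton_iff.2 hy'))
    calc x * y = g * (z * (g⁻¹ * y * g)) * g⁻¹ := by rw [hx]; group
      _ = y * x := by rw [← h2, hx]; group
  have hxz : x * z = z * x := hxC z (c.comm_z w).symm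
  set xh : centralizer ({z} : Set G) := ⟨x, mem_centralizer_singleton_iff.2 hxz⟩
  have hcen : ∀ y ∈ M, y * QuotientGroup.mk' Q xh * y⁻¹ = QuotientGroup.mk' Q xh := by
    intro y hy
    obtain ⟨y', rfl, hy'⟩ := c.lift_comm hw h3 hy
    rw [mul_inv_eq_iff_eq_mul, ← map_mul, ← map_mul]
    exact congrArg _ (Subtype.ext (hxC y' (congrArg Subtype.val hy')).symm)
  have hk : QuotientGroup.mk' Q xh = 1 := by
    by_contra hk1
    have hxx : xh * xh = 1 := Subtype.ext (show g * z * g⁻¹ * (g * z * g⁻¹) = 1 by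
      rw [show g * z * g⁻¹ * (g * z * g⁻¹) = g * (z * z) * g⁻¹ by group, c.zz]; group)
    obtain ⟨y, hy, hyA⟩ := c.mdl.facts.inv_conj s Ab c.oth.hex _ (c.mk_mem_M hw (y := xh) (Subtype.ext hxw))
      (by rw [← map_mul, hxx, map_one]) hk1
    rw [hcen y hy] at hyA
    have hall : ((Ab : Set ((centralizer ({z} : Set G)) ⧸ Q)) \ {1}) ⊆ {QuotientGroup.mk' Q xh} := by
      rintro b ⟨hb, hb1⟩
      obtain ⟨y', -, hy', e⟩ := c.oth.hex.transitive _ hyA hk1 b hb hb1
      rw [← e, hcen y' hy']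
      rfl
    have h := Set.ncard_le_ncard hall (Set.toFinite _)
    rw [Set.ncard_sdiff_singleton_of_mem (one_mem Ab), Set.ncard_singleton, ← Nat.card_coe_set_eq] at h
    rw [SetLike.coe_sort_coe, show Nat.card ↥Ab = 16 from c.oth.card] at h
    omega
  have hxz' : x = z := by
    rcases c.fixed_Q hw (u := ⟨xh, (QuotientGroup.eq_one_iff _).1 hk⟩) hxw with e | e
    · exact absurd (conj_eq_one_iff.1 (show g * z * g⁻¹ = 1 from e)) c.z_ne
    · exact e
  exact mem_centralizer_singleton_iff.2 (mul_inv_eq_iff_eq_mul.1 (hx ▸ hxz'))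

/-- The involution `z` is a product of commutators in the centraliser of the element of order three. -/
theorem z_mem_derived :
    z ∈ ⁅centralizer ({z} : Set G) ⊓ centralizer ({(w : G)} : Set G),
      centralizer ({z} : Set G) ⊓ centralizer ({(w : G)} : Set G)⁆ := by
  classical
  set X := centralizer ({z} : Set G) ⊓ centralizer ({(w : G)} : Set G) with hX
  set D := ⁅X, X⁆ with hD
  have hzX : z ∈ X := ⟨mem_centralizer_singleton_iff.2 rfl, mem_centralizer_singleton_iff.2 (c.comm_z w).symm⟩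
  have hDle : D ≤ X := commutator_le.2 fun a ha b hb => by
    rw [commutatorElement_def]
    exact mul_mem (mul_mem (mul_mem ha hb) (inv_mem ha)) (inv_mem hb)
  have hDn : ∀ {a : G}, a ∈ X → ∀ {d : G}, d ∈ D → a * d * a⁻¹ ∈ D := by
    intro a ha d hd
    have h1 : ⁅a, d⁆ ∈ D := commutator_mem_commutator ha (hDle hd)
    have : a * d * a⁻¹ = ⁅a, d⁆ * d := by rw [commutatorElement_def]; group
    rw [this]
    exact mul_mem h1 hd
  -- the derived subgroup covers `M`
  let f : ↥X →* (centralizer ({z} : Set G)) ⧸ Q := (QuotientGroup.mk' Q).comp (Subgroup.inclusion inf_le_left)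
  have hfr : f.range = M := by
    refine le_antisymm ?_ fun k hk => ?_
    · rintro _ ⟨y, rfl⟩
      exact c.mk_mem_M hw (y := Subgroup.inclusion inf_le_left y)
        (Subtype.ext (mem_centralizer_singleton_iff.1 y.2.2))
    · obtain ⟨y, rfl, hy⟩ := c.lift_comm hw h3 hk
      exact ⟨⟨y, y.2, mem_centralizer_singleton_iff.2 (congrArg Subtype.val hy)⟩, rfl⟩
  have hperf : ⁅M, M⁆ = M := by
    refine le_antisymm (commutator_le.2 fun a ha b hb => ?_) fun m hm => ?_
    · rw [commutatorElement_def]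
      exact mul_mem (mul_mem (mul_mem ha hb) (inv_mem ha)) (inv_mem hb)
    · haveI := CfsgLib.Golay.sporM22_simple
      have hcom : (commutator ↥M).map φ = commutator ↥Cfsg.Spor.M22 := by
        rw [map_commutator_eq, MonoidHom.range_eq_top.2 c.oth.core.surj, commutator_def]
      have htop : commutator ↥Cfsg.Spor.M22 = ⊤ := by
        rcases (inferInstance : (commutator ↥Cfsg.Spor.M22).Normal).eq_bot_or_eq_top with h | h
        · exfalso
          haveI : IsMulCommutative ↥Cfsg.Spor.M22 := ⟨⟨fun a b => by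
            have := commutator_mem_commutator (G := ↥Cfsg.Spor.M22) (H₁ := ⊤) (H₂ := ⊤) (mem_top a) (mem_top b)
            rw [← commutator_def, h, mem_bot, commutatorElement_eq_one_iff_mul_comm] at this
            exact this⟩⟩
          letI : CommGroup ↥Cfsg.Spor.M22 :=
            { (inferInstance : Group ↥Cfsg.Spor.M22) with mul_comm := fun a b => IsMulCommutative.is_comm.comm a b }
          have h1 := IsSimpleGroup.prime_card (α := ↥Cfsg.Spor.M22)
          rw [CfsgLib.Golay.card_sporM22] at h1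
          norm_num at h1
        · exact h
      have hsub : (commutator ↥M).map M.subtype = ⁅M, M⁆ := map_subtype_commutator M
      have hmM : φ ⟨m, hm⟩ ∈ (commutator ↥M).map φ := by rw [hcom, htop]; exact mem_top _
      obtain ⟨m', hm', e⟩ := hmM
      have hk : (m'⁻¹ * ⟨m, hm⟩ : ↥M) ∈ φ.ker := by rw [MonoidHom.mem_ker, map_mul, map_inv, e, inv_mul_cancel]
      have h2 : ((m'⁻¹ * ⟨m, hm⟩ : ↥M) : (centralizer ({z} : Set G)) ⧸ Q) ∈ ⁅M, M⁆ :=
        (zpowers_le.2 c.oth.core.derived) ((c.oth.core.ker _).1 hk)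
      have h3' : (m' : (centralizer ({z} : Set G)) ⧸ Q) ∈ ⁅M, M⁆ := hsub ▸ ⟨m', hm', rfl⟩
      simpa using mul_mem h3' h2
  have hfD : ∀ k ∈ M, ∃ d : ↥X, (d : G) ∈ D ∧ f d = k := by
    intro k hk
    have : k ∈ (commutator ↥X).map f := by
      rw [map_commutator_eq, hfr, hperf]; exact hk
    obtain ⟨d, hd, e⟩ := this
    refine ⟨d, ?_, e⟩
    rw [hD, ← map_subtype_commutator X]
    exact ⟨d, hd, rfl⟩
  by_contra hzD
  have himgD : ∀ b ∈ SP z A (w : G), b ∈ D ∨ b * z ∈ D := by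
    intro b hb
    obtain ⟨d, hd, hfd⟩ := hfD _ (c.oth.le (c.imK_mem hb.1.1))
    obtain ⟨u, hu⟩ : ∃ u : ↥Q, val u = b * (d : G) := by
      refine ⟨⟨⟨b * (d : G), mul_mem (c.le hb.1.1) d.2.1⟩, (QuotientGroup.eq_one_iff _).1 ?_⟩, rfl⟩
      show QuotientGroup.mk' Q _ = 1
      rw [← imK_eq (mul_mem (c.le hb.1.1) d.2.1), imK_mul (c.le hb.1.1) d.2.1, imK_eq d.2.1,
        show QuotientGroup.mk' Q ⟨(d : G), d.2.1⟩ = f d from rfl, hfd, ← pow_two]
      exact c.oth.elem.2 _ (c.imK_mem hb.1.1)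
    have huw : val u * (w : G) = (w : G) * val u := by
      rw [hu]
      exact ((show Commute b (w : G) from hb.2).mul_left (mem_centralizer_singleton_iff.1 d.2.2)).eq
    have e : (d : G) = b * val u := by rw [hu, ← mul_assoc, c.sq hb.1.1, one_mul]
    rcases c.fixed_Q hw huw with e' | e' <;> rw [e', ] at e
    · exact Or.inl (by rwa [e, mul_one] at hd)
    · exact Or.inr (e ▸ hd)
  have hnot : ∀ b ∈ SP z A (w : G), b ∈ D → b * z ∉ D := fun b hb h1 h2 => hzD (by
    have := mul_mem h1 h2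
    rwa [← mul_assoc, c.sq hb.1.1, one_mul] at this)
  have huniq : ∀ b ∈ SP z A (w : G), ∀ b₂ ∈ SP z A (w : G), imK Q b = imK Q b₂ → b = b₂ := by
    intro b hb b₂ hb₂ e
    rcases c.fixed_cases hw h3 (mul_mem hb.1.1 hb₂.1.1) ((show Commute b (w : G) from hb.2).mul_left hb₂.2).eq with
      e1 | e1 | ⟨b₃, hb₃, e1⟩
    · rw [eq_inv_of_mul_eq_one_left e1, c.inv hb₂.1.1]
    · refine absurd ?_ hb₂.1.2.2
      rw [show b₂ = b * z by rw [← e1, ← mul_assoc, c.sq hb.1.1, one_mul]]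
      exact c.SP_z hw h3 hb
    · exfalso
      refine c.SP_outer hw h3 hb₃ ((c.imK_eq_one hb₃.1.1).1 ?_)
      have h0 : imK Q (b * b₂) = 1 := by
        rw [imK_mul (c.le hb.1.1) (c.le hb₂.1.1), e, ← pow_two]
        exact c.oth.elem.2 _ (c.imK_mem hb₂.1.1)
      rcases e1 with e1 | e1 <;> rw [e1] at h0
      · exact h0
      · rwa [imK_mul (c.le hb₃.1.1) (c.le c.z_mem), (c.imK_eq_one c.z_mem).2 (by
          obtain ⟨z₀, hz₀, -⟩ := c.z_val
          exact ⟨z₀, hz₀⟩), mul_one] at h0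
  have hall : ∀ b ∈ SP z A (w : G), ∀ b₂ ∈ SP z A (w : G), b ∈ D → b₂ ∈ D := by
    intro b hb b₂ hb₂ hbD
    have h1 : imK Q b ≠ 1 := fun e => c.SP_outer hw h3 hb ((c.imK_eq_one hb.1.1).1 e)
    have h2 : imK Q b₂ ≠ 1 := fun e => c.SP_outer hw h3 hb₂ ((c.imK_eq_one hb₂.1.1).1 e)
    obtain ⟨y₀, hy₀N, hy₀, e⟩ := c.oth.hex.transitive _ (c.imK_mem hb.1.1) h1 _ (c.imK_mem hb₂.1.1) h2
    obtain ⟨y, rfl, hy⟩ := c.lift_comm hw h3 hy₀
    have hyX : (y : G) ∈ X := ⟨y.2, mem_centralizer_singleton_iff.2 (congrArg Subtype.val hy)⟩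
    have hyb : (y : G) * b * (y : G)⁻¹ ∈ SP z A (w : G) := by
      refine ⟨c.Ns_conj (c.mem_N_iff.2 hy₀N) hb.1, ?_⟩
      have hy' : Commute (y : G) (w : G) := congrArg Subtype.val hy
      exact ((hy'.mul_left hb.2).mul_left hy'.inv_left).eq
    have := huniq _ hyb _ hb₂ (by rw [c.imK_conj hb.1.1, e])
    exact this ▸ hDn hyX hbD
  obtain ⟨b, hb, b', hb', hbb'⟩ := c.exists_meet hw h3
  have hbb : b * b' ∈ SP z A (w : G) := ⟨hbb', ((show Commute b (w : G) from hb.2).mul_left hb'.2).eq⟩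
  rcases himgD b hb with hbD | hbD
  · -- all pair elements are derived
    obtain ⟨b₁, hb₁, hdis⟩ := c.exists_disjoint hw h3 hb
    rcases c.fixed_cases hw h3 (mul_mem hb.1.1 hb₁.1.1) ((show Commute b (w : G) from hb.2).mul_left hb₁.2).eq with
      e1 | e1 | ⟨b₃, hb₃, e1 | e1⟩
    · exact c.not_isConj_one (e1 ▸ hdis)
    · exact hzD (e1 ▸ mul_mem hbD (hall b hb b₁ hb₁ hbD))
    · exact hb₃.1.2.2 (e1 ▸ hdis)
    · exact hnot b₃ hb₃ (hall b hb b₃ hb₃ hbD) (e1 ▸ mul_mem hbD (hall b hb b₁ hb₁ hbD))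
  · have hb'D : b' * z ∈ D := (himgD b' hb').resolve_left fun h => hnot b hb (hall b' hb' b hb h) hbD
    have hprod : b * b' ∈ D := by
      have := mul_mem hbD hb'D
      rwa [show b * z * (b' * z) = b * b' from by
        rw [c.comm hb'.1.1 c.z_mem, mul_assoc b z, ← mul_assoc z z, c.zz, one_mul]] at this
    exact hnot b hb (hall _ hbb b hb hprod) hbD

end Ctx

end CfsgLib.JankoFour.Thompson
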