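import Cfsg.Agent.Lib.JankoFour.Centraliser.FrameOf
import Cfsg.Agent.Lib.JankoFour.Thompson.Labelling

/-!
# Groups of Janko-four type: the centraliser of an involution of `A` outside the class of `z`
-/

set_option autoImplicit false
set_option linter.unusedSectionVars false

namespace CfsgLib.JankoFour

open QuadraticMap
open CfsgLib.LargeFischer (fixSub)

section Abstract

variable {V : Type*} [AddCommGroup V] [Module (ZMod 2) V] [Finite V]
  {K : Type*} [Group K] [Finite K] [DistribMulAction K V] {q : QuadraticForm (ZMod 2) V} {n : K} {M : Subgroup K}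
  {φ : ↥M →* ↥Cfsg.Spor.M22} {s : V} {A : Subgroup K}

/-- A conjugate of a hexad group is a hexad group. -/
theorem Hex.conj (c : Core q n M φ) (hf : Facts q n M) (hs : Class q K s) (h : Hex q n M s A) (k : K) :
    Hex q n M s (A.map (MulAut.conj k).toMonoidHom) := by
  set B := A.map (MulAut.conj k).toMonoidHom
  have hB : Cfsg.IsElementaryAbelian 2 B := by
    refine ⟨⟨⟨?_⟩⟩, ?_⟩
    · rintro ⟨_, x, hx, rfl⟩ ⟨_, y, hy, rfl⟩
      refine Subtype.ext ?_
      simp only [Subgroup.coe_mul]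
      rw [← map_mul, ← map_mul,
        show x * y = y * x from congrArg Subtype.val (h.elem.1.is_comm.comm ⟨x, hx⟩ ⟨y, hy⟩)]
    · rintro _ ⟨x, hx, rfl⟩
      rw [← map_pow, h.elem.2 x hx, map_one]
  refine (hf.big_class s hs.ne hs.sing hs.card B (fixSub B) hB (fun b hb w hw => hw b hb) (fun w hw => ?_) ?_).1
  · have hfix : ∀ a ∈ A, a • k⁻¹ • w = k⁻¹ • w := fun a ha => by
      conv_rhs => rw [← hw (k * a * k⁻¹) ⟨a, ha, rfl⟩]
      simp [← mul_smul, mul_assoc]
    rw [← c.isom k⁻¹ w]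
    exact h.sing _ hfix
  · have h16 : Nat.card B = 16 := by rw [Subgroup.card_map_of_injective (MulEquiv.injective _), h.card]
    have h64 : 64 ≤ Nat.card ↥(fixSub B : AddSubgroup V) := by
      rw [← h.fix64]
      refine Nat.card_le_card_of_injective (fun v => ⟨k • (v : V), ?_⟩) fun v w e =>
        Subtype.ext (MulAction.injective k (congrArg Subtype.val e))
      rintro _ ⟨a, ha, rfl⟩
      show (k * a * k⁻¹) • k • (v : V) = k • (v : V)
      rw [← mul_smul, show k * a * k⁻¹ * k = k * a by group, mul_smul, v.2 a ha]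
    rw [h16]
    calc 2 ^ 10 = 16 * 64 := by norm_num
      _ ≤ _ := Nat.mul_le_mul_left _ h64

end Abstract

namespace Thompson

open Subgroup
open CfsgLib.LargeFischer.Thompson (val elem_comap elem_map')

variable {G : Type*} [Group G] [Finite G] {z : G}
  {Q : Subgroup (centralizer ({z} : Set G))} [Q.Normal] {V : Type*} [AddCommGroup V] [Module (ZMod 2) V]
  [DistribMulAction ((centralizer ({z} : Set G)) ⧸ Q) V] [Finite V] {q : QuadraticForm (ZMod 2) V} {π : ↥Q → V}
  {n : (centralizer ({z} : Set G)) ⧸ Q} {M : Subgroup ((centralizer ({z} : Set G)) ⧸ Q)}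
  {φ : ↥M →* ↥Cfsg.Spor.M22} {s : V} {A : Subgroup G} {Ab : Subgroup ((centralizer ({z} : Set G)) ⧸ Q)}

namespace Ctx

variable (c : Ctx Q q π n M φ s A Ab)
include c

/-- The centraliser in `C(z)` of a pair element normalises `A`. -/
theorem centralizer_z_le {a : G} (ha : a ∈ Ns z A) {g : G} (hgz : g * z = z * g) (hga : g * a = a * g) :
    g ∈ Subgroup.normalizer (A : Set G) := by
  set w : centralizer ({z} : Set G) := ⟨g, mem_centralizer_singleton_iff.2 hgz⟩
  refine (c.mem_N_iff (w := w)).2 ?_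
  set k := QuotientGroup.mk' Q w with hk
  have hB := c.oth.hex.conj c.oth.core c.mdl.facts c.oth.cls k
  rw [mem_normalizer_iff_map_conj_eq]
  symm
  by_cases hu : ∃ u : ↥Q, val u = a
  · obtain ⟨u, rfl⟩ := hu
    obtain ⟨hF, h0, ho⟩ := c.val_nc.1 ha
    have hfix : k • π u = π u := c.mdl.fixed_of_comm (Subtype.ext hga)
    refine c.mdl.facts.nc_hex s _ _ (π u) c.oth.hex hB ⟨hF, h0, ho⟩ ⟨?_, h0, ho⟩
    rintro _ ⟨b, hb, rfl⟩
    show (k * b * k⁻¹) • π u = π u
    rw [mul_smul, mul_smul, show k⁻¹ • π u = π u from inv_smul_eq_iff.2 hfix.symm, hF b hb, hfix]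
  · have hA : QuotientGroup.mk' Q ⟨a, c.le ha.1⟩ ∈ Ab := c.mk_mem (w := ⟨a, c.le ha.1⟩) ha.1
    refine c.mdl.facts.inv_hex s _ _ _ c.oth.hex hB hA ⟨_, hA, ?_⟩ fun e => hu ((c.inner_iff ha.1).2 e)
    simp only [MulEquiv.coe_toMonoidHom, MulAut.conj_apply, MonoidHom.coe_coe]
    rw [hk, ← map_inv, ← map_mul, ← map_mul]
    exact congrArg _ (Subtype.ext (mul_inv_eq_iff_eq_mul.2 hga))

theorem exists_frame : ∃ f ψ, Centraliser.Frame z A f ψ := by
  classical
  haveI := Fact.mk Nat.prime_two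
  obtain ⟨f, hfA, hpair, hcover⟩ := c.exists_labelling
  refine Centraliser.exists_frame c.elem c.card (fun k hk => c.cent hk) (fun g hg => ?_) (fun x hx y hy hx1 hxz hyz g hgx hgy => ?_)
    f (by simp) hfA c.Ns_counts.1 (fun d hd hd1 hdz => c.degree ⟨hd, hd1, hdz⟩)
    (fun a b hab => ⟨(hpair a b hab).2.1, (hpair a b hab).2.2⟩) (fun x hx hx1 hxz => hcover x ⟨hx, hx1, hxz⟩)
  · set B := A.map (MulAut.conj g).toMonoidHom
    have hB2 : IsPGroup 2 ↥B := (IsPGroup.of_card c.card).map _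
    have hBN : B ≤ Subgroup.normalizer (A : Set G) := by
      rintro _ ⟨a, ha, rfl⟩
      exact hg a ha
    have e := c.uniq B (A ⊔ B) (elem_map' _ c.elem)
      (by rw [card_map_of_injective (MulEquiv.injective _), c.card])
      (IsPGroup.to_sup_of_normal_left' (IsPGroup.of_card c.card) hB2 hBN) le_sup_left le_sup_right
    exact c.mem_normalizer fun a ha => e ▸ ⟨a, ha, rfl⟩
  · obtain ⟨k, rfl⟩ := isConj_iff.1 hyz
    obtain ⟨m, hm, hme⟩ := c.fusion c.z_mem (g := k) hy
    rw [← hme] at hgy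
    have hns : m⁻¹ * x * m ∈ Ns z A := by
      have := c.Ns_conj (inv_mem hm) (a := x) ⟨hx, hx1, hxz⟩
      simpa using this
    have h := c.centralizer_z_le hns (g := m⁻¹ * g * m) ?_ ?_
    · simpa [mul_assoc] using mul_mem (mul_mem hm h) (inv_mem hm)
    · calc m⁻¹ * g * m * z = m⁻¹ * (g * (m * z * m⁻¹)) * m := by group
        _ = z * (m⁻¹ * g * m) := by rw [hgy]; group
    · calc m⁻¹ * g * m * (m⁻¹ * x * m) = m⁻¹ * (g * x) * m := by group
        _ = m⁻¹ * x * m * (m⁻¹ * g * m) := by rw [hgx]; group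

/-- The centraliser of a pair element normalises `A`. -/
theorem centralizer_pair_le {t : G} (ht : t ∈ Ns z A) :
    centralizer ({t} : Set G) ≤ Subgroup.normalizer (A : Set G) := by
  obtain ⟨f, ψ, F⟩ := c.exists_frame
  exact F.centralizer_le ht.1 ht.2.1 ht.2.2

end Ctx

end Thompson

end CfsgLib.JankoFour
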