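import Mathlib
import Cfsg.Prelude.Def_Transfer
import Cfsg.Agent.Lib.Invol.Dihedral

/-!
# A criterion for an elementary abelian subgroup to be normal

If the elements of `A` outside a central subgroup `Z` of `L` fix only one conjugate of `A` and an invariant of
conjugation modulo `Z` is not constant on them, then `L` normalises `A`.
-/

set_option autoImplicit false

namespace CfsgLib.JankoFour.Centraliser

open Subgroup

/-- Two involutions each fixing a single point, with different points, are conjugate. -/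
theorem conj_of_fix {Γ : Type*} [Group Γ] [Finite Γ] {A N : Subgroup Γ} (hAN : A ≤ N)
    (hA : ∀ a ∈ A, a * a = 1) (hn : ∀ n ∈ N, ∀ a ∈ A, n * a * n⁻¹ ∈ A)
    (hfix : ∀ a ∈ A, a ≠ 1 → ∀ x : Γ, x⁻¹ * a * x ∈ N → x ∈ N)
    {a b g : Γ} (ha : a ∈ A) (ha1 : a ≠ 1) (hb : b ∈ A) (hb1 : b ≠ 1) (hg : g ∉ N) :
    IsConj a (g * b * g⁻¹) := by
  have ho : ∀ c ∈ A, c ≠ 1 → orderOf c = 2 := fun c hc hc1 =>
    CfsgLib.Invol.orderOf_eq_two_iff'.2 ⟨hc1, hA c hc⟩
  have hx := ho a ha ha1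
  have hy : orderOf (g * b * g⁻¹) = 2 := (CfsgLib.Invol.orderOf_conj_eq g b).trans (ho b hb hb1)
  rcases Nat.even_or_odd (orderOf (a * (g * b * g⁻¹))) with he | hodd
  · exfalso
    set j := (a * (g * b * g⁻¹)) ^ (orderOf (a * (g * b * g⁻¹)) / 2) with hj
    have hja : Commute j a := CfsgLib.Invol.commute_half_left hx hy he
    have hjb : Commute j (g * b * g⁻¹) := CfsgLib.Invol.commute_half_right hx hy he
    have hjN : j ∈ N := hfix a ha ha1 j (by
      rw [mul_assoc, ← hja.eq, inv_mul_cancel_left]; exact hAN ha)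
    have hjN' : g⁻¹ * j * g ∈ N := by
      refine hfix b hb hb1 _ ?_
      rw [show (g⁻¹ * j * g)⁻¹ * b * (g⁻¹ * j * g) = g⁻¹ * (j⁻¹ * ((g * b * g⁻¹) * j)) * g by group,
        ← hjb.eq, inv_mul_cancel_left, show g⁻¹ * (g * b * g⁻¹) * g = b by group]
      exact hAN hb
    have hajN : a * j ∈ N := mul_mem (hAN ha) hjN
    have hajA : a * j ∈ A := by
      by_cases h4 : 4 ∣ orderOf (a * (g * b * g⁻¹))
      · obtain ⟨d, -, hd⟩ := CfsgLib.Invol.conj_half_of_four_dvd hx hy h4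
        rw [← hj] at hd
        have hdN : d⁻¹ ∈ N := hfix a ha ha1 d⁻¹ (by rw [inv_inv, hd]; exact hajN)
        rw [← hd]
        exact hn d (inv_mem_iff.1 hdN) a ha
      · obtain ⟨d, -, hd⟩ := CfsgLib.Invol.conj_half_of_not_four_dvd hx hy he h4
        rw [← hj] at hd
        have e : d * (g * b * g⁻¹) * d⁻¹ = d * g * b * (d * g)⁻¹ := by group
        rw [e] at hd
        have hdN : (d * g)⁻¹ ∈ N := hfix b hb hb1 _ (by rw [inv_inv, hd]; exact hajN)
        rw [← hd]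
        exact hn (d * g) (inv_mem_iff.1 hdN) b hb
    have hjA : j ∈ A := (Subgroup.mul_mem_cancel_left A ha).1 hajA
    exact hg (hfix j hjA (CfsgLib.Invol.ne_one_of_orderOf_two (CfsgLib.Invol.orderOf_half he)) g hjN')
  · obtain ⟨d, -, hd⟩ := CfsgLib.Invol.exists_conj_of_odd hx hy hodd
    exact isConj_iff.2 ⟨d, hd⟩

variable {G : Type*} [Group G] [Finite G] {A Z L : Subgroup G}

/-- Elements of `A` outside `Z` fix only one conjugate of `A`. -/
theorem fix_of_cent (hA : Cfsg.IsElementaryAbelian 2 A) (hcard : Nat.card A = 2 ^ 11) (hAL : A ≤ L) (hZA : Z ≤ A)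
    (hcen : ∀ l ∈ L, ∀ y ∈ Z, l * y = y * l)
    (hcent : ∀ a ∈ A, a ∉ Z → ∀ l ∈ L, l * a = a * l → l ∈ normalizer (A : Set G))
    (huniq : ∀ g ∈ L, (∀ a ∈ A, g * a * g⁻¹ ∈ normalizer (A : Set G)) → g ∈ normalizer (A : Set G))
    (hrank : ∀ B : Subgroup G, B ≤ L ⊓ normalizer (A : Set G) → Cfsg.IsElementaryAbelian 2 B → Z ≤ B →
      B ⊓ A ≤ Z → Nat.card B ≤ 64 ∧ (64 ≤ Nat.card B → ∃ b ∈ B, b ∉ Z ∧
        128 ≤ Nat.card ↥(A ⊓ centralizer ({b} : Set G)))) :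
    ∀ a ∈ A, a ∉ Z → ∀ g ∈ L, g⁻¹ * a * g ∈ normalizer (A : Set G) → g ∈ normalizer (A : Set G) := by
  classical
  haveI := Fact.mk Nat.prime_two
  intro a ha haZ g hg hga
  by_contra hgN
  have hsq : ∀ x ∈ A, x * x = 1 := fun x hx => by rw [← sq]; exact hA.2 x hx
  have hcomm : ∀ x ∈ A, ∀ y ∈ A, x * y = y * x := fun x hx y hy =>
    congrArg Subtype.val (hA.1.is_comm.comm ⟨x, hx⟩ ⟨y, hy⟩)
  have hAN : A ≤ normalizer (A : Set G) := le_normalizer
  -- a conjugate of an element outside `Z` cannot lie in `A`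
  have hnot : ∀ x ∈ A, x ∉ Z → g * x * g⁻¹ ∉ A := by
    intro x hx hxZ hgx
    refine hgN (huniq g hg fun y hy => ?_)
    refine hcent _ hgx (fun h => hxZ ?_) _ (mul_mem (mul_mem hg (hAL hy)) (inv_mem hg)) ?_
    · have hz := hcen g hg _ h
      have : x = g * x * g⁻¹ := by
        calc x = g⁻¹ * ((g * x * g⁻¹) * g) := by group
          _ = g * x * g⁻¹ := by rw [← hz]; group
      exact this ▸ h
    · calc g * y * g⁻¹ * (g * x * g⁻¹) = g * (y * x) * g⁻¹ := by group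
        _ = g * x * g⁻¹ * (g * y * g⁻¹) := by rw [hcomm y hy x hx]; group
  -- the centraliser of `a` in the conjugate
  set a' := g⁻¹ * a * g with ha'
  have haL : a ∈ L := hAL ha
  have ha'sq : a' * a' = 1 := by
    rw [ha', show g⁻¹ * a * g * (g⁻¹ * a * g) = g⁻¹ * (a * a) * g by group, hsq a ha]; group
  let κ : ↥A →* ↥A := MonoidHom.mk' (fun x => ⟨(x : G) * (a' * x * a'⁻¹),
      mul_mem x.2 ((mem_normalizer_iff.1 hga _).1 x.2)⟩) fun x y => Subtype.ext (by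
    simp only [Subgroup.coe_mul]
    have h1 := hcomm _ ((mem_normalizer_iff.1 hga _).1 x.2) _ y.2
    calc (x : G) * (y : G) * (a' * ((x : G) * (y : G)) * a'⁻¹)
        = (x : G) * ((y : G) * (a' * x * a'⁻¹)) * (a' * y * a'⁻¹) := by group
      _ = (x : G) * (a' * x * a'⁻¹) * ((y : G) * (a' * y * a'⁻¹)) := by
          have h1' : a' * (x : G) * a'⁻¹ * (y : G) = (y : G) * (a' * x * a'⁻¹) := h1
          rw [← h1']; group)
  have hker : ∀ x : ↥A, x ∈ κ.ker ↔ (x : G) * a' = a' * x := by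
    intro x
    rw [MonoidHom.mem_ker, Subtype.ext_iff]
    show (x : G) * (a' * x * a'⁻¹) = 1 ↔ _
    constructor
    · intro h
      have h2 : a' * (x : G) * a'⁻¹ = x := by
        calc a' * (x : G) * a'⁻¹ = (x : G)⁻¹ * ((x : G) * (a' * x * a'⁻¹)) := by group
          _ = x := by rw [h, mul_one]; exact inv_eq_of_mul_eq_one_right (hsq _ x.2)
      exact (mul_inv_eq_iff_eq_mul.1 h2).symm
    · intro h
      rw [← h, mul_inv_cancel_right, hsq _ x.2]
  have hle : κ.range ≤ κ.ker := by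
    rintro _ ⟨x, rfl⟩
    rw [hker]
    show (x : G) * (a' * x * a'⁻¹) * a' = a' * ((x : G) * (a' * x * a'⁻¹))
    have h1 : a' * (x : G) * a'⁻¹ * x = (x : G) * (a' * x * a'⁻¹) :=
      hcomm _ ((mem_normalizer_iff.1 hga _).1 x.2) _ x.2
    have h2 : a'⁻¹ = a' := inv_eq_of_mul_eq_one_right ha'sq
    calc (x : G) * (a' * x * a'⁻¹) * a' = (x : G) * a' * x := by group
      _ = (a' * a') * ((x : G) * a' * x) := by rw [ha'sq, one_mul]
      _ = a' * (a' * (x : G) * a'⁻¹ * x) := by rw [h2]; group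
      _ = a' * ((x : G) * (a' * x * a'⁻¹)) := by rw [h1]
  have hk64 : 64 ≤ Nat.card κ.ker := by
    have h1 := κ.ker.card_mul_index
    rw [index_ker, hcard] at h1
    have h2 : Nat.card κ.range ∣ Nat.card κ.ker := card_dvd_of_le hle
    obtain ⟨i, hi, hik⟩ := (Nat.dvd_prime_pow Nat.prime_two).1 (Dvd.intro _ h1)
    have h3 := Nat.le_of_dvd Nat.card_pos h2
    rw [hik] at h1 h3 ⊢
    by_contra h
    have hi5 : i ≤ 5 := by
      by_contra hlt
      exact h (le_trans (by norm_num : 64 ≤ 2 ^ 6) (Nat.pow_le_pow_right (by norm_num) (by omega)))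
    have h4 : 2 ^ i ≤ 2 ^ 5 := Nat.pow_le_pow_right (by norm_num) hi5
    nlinarith
  -- transport it
  let B : Subgroup G := (A ⊓ centralizer ({a'} : Set G)).map (MulAut.conj g).toMonoidHom
  have hBmem : ∀ {y : G}, y ∈ B → g⁻¹ * y * g ∈ A ∧ y * a = a * y ∧ y ∈ L := by
    rintro _ ⟨x, ⟨hx, hxa⟩, rfl⟩
    simp only [MulEquiv.coe_toMonoidHom, MulAut.conj_apply]
    refine ⟨by simpa [mul_assoc] using hx, ?_, mul_mem (mul_mem hg (hAL hx)) (inv_mem hg)⟩
    have h1 : x * a' = a' * x := mem_centralizer_singleton_iff.1 hxa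
    calc g * x * g⁻¹ * a = g * (x * a') * g⁻¹ := by rw [ha']; group
      _ = a * (g * x * g⁻¹) := by rw [h1, ha']; group
  have hBcard : 64 ≤ Nat.card B := by
    rw [card_map_of_injective (MulEquiv.injective _)]
    refine hk64.trans (le_of_eq (Nat.card_congr
      { toFun := fun x => ⟨(x : ↥A), (x : ↥A).2, mem_centralizer_singleton_iff.2 ((hker _).1 x.2)⟩
        invFun := fun y => ⟨⟨y, y.2.1⟩, (hker _).2 (mem_centralizer_singleton_iff.1 y.2.2)⟩
        left_inv := fun _ => rfl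
        right_inv := fun _ => rfl }))
  have hsub : ∀ {T : Subgroup G}, T ≤ A → Cfsg.IsElementaryAbelian 2 T := fun {T} hT =>
    ⟨⟨⟨fun x y => Subtype.ext (hcomm _ (hT x.2) _ (hT y.2))⟩⟩, fun x hx => hA.2 x (hT hx)⟩
  have hBelem : Cfsg.IsElementaryAbelian 2 B := by
    refine ⟨⟨⟨?_⟩⟩, ?_⟩
    · rintro ⟨_, x, hx, rfl⟩ ⟨_, y, hy, rfl⟩
      refine Subtype.ext ?_
      simp only [Subgroup.coe_mul]
      rw [← map_mul, ← map_mul, hcomm x hx.1 y hy.1]
    · rintro _ ⟨x, hx, rfl⟩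
      rw [← map_pow, hA.2 x hx.1, map_one]
  have hZB : Z ≤ B := fun y hy => ⟨y, ⟨hZA hy, mem_centralizer_singleton_iff.2 ((hcen _
      (mul_mem (mul_mem (inv_mem hg) haL) hg) y hy).symm)⟩, by
    simp only [MulEquiv.coe_toMonoidHom, MulAut.conj_apply]
    rw [hcen g hg y hy, mul_inv_cancel_right]⟩
  obtain ⟨-, hb⟩ := hrank B (fun y hy => ⟨(hBmem hy).2.2, hcent a ha haZ y (hBmem hy).2.2 (hBmem hy).2.1⟩)
    hBelem hZB fun y hy => by
      by_contra hyZ
      refine hnot _ (hBmem hy.1).1 (fun h => hyZ ?_) (by simpa [mul_assoc] using hy.2)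
      have hz := hcen g hg _ h
      have : y = g⁻¹ * y * g := by
        calc y = g * (g⁻¹ * y * g) * g⁻¹ := by group
          _ = g⁻¹ * y * g := by rw [hz, mul_inv_cancel_right]
      exact this ▸ h
  obtain ⟨b, hbB, hbZ, h128⟩ := hb hBcard
  -- and back
  set c := g⁻¹ * b * g with hc
  have hcA : c ∈ A := (hBmem hbB).1
  have hcZ : c ∉ Z := fun h => hbZ (by
    have hz := hcen g hg _ h
    have : b = c := by
      calc b = g * c * g⁻¹ := by rw [hc]; group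
        _ = c := by rw [hz, mul_inv_cancel_right]
    exact this ▸ h)
  let B' : Subgroup G := (A ⊓ centralizer ({b} : Set G)).map (MulAut.conj g⁻¹).toMonoidHom
  have hB'card : 128 ≤ Nat.card B' := by
    rwa [card_map_of_injective (MulEquiv.injective _)]
  have hB'elem : Cfsg.IsElementaryAbelian 2 B' := by
    refine ⟨⟨⟨?_⟩⟩, ?_⟩
    · rintro ⟨_, x, hx, rfl⟩ ⟨_, y, hy, rfl⟩
      refine Subtype.ext ?_
      simp only [Subgroup.coe_mul]
      rw [← map_mul, ← map_mul, hcomm x hx.1 y hy.1]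
    · rintro _ ⟨x, hx, rfl⟩
      rw [← map_pow, hA.2 x hx.1, map_one]
  have hB'le : B' ≤ L ⊓ normalizer (A : Set G) := by
    rintro _ ⟨x, ⟨hx, hxb⟩, rfl⟩
    simp only [MulEquiv.coe_toMonoidHom, MulAut.conj_apply, inv_inv]
    have hl : g⁻¹ * x * g ∈ L := mul_mem (mul_mem (inv_mem hg) (hAL hx)) hg
    refine ⟨hl, hcent c hcA hcZ _ hl ?_⟩
    have h1 : x * b = b * x := mem_centralizer_singleton_iff.1 hxb
    calc g⁻¹ * x * g * c = g⁻¹ * (x * b) * g := by rw [hc]; group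
      _ = c * (g⁻¹ * x * g) := by rw [h1, hc]; group
  have hZB' : Z ≤ B' := fun y hy => ⟨y, ⟨hZA hy, mem_centralizer_singleton_iff.2
      ((hcen b ((hBmem hbB).2.2) y hy).symm)⟩, by
    simp only [MulEquiv.coe_toMonoidHom, MulAut.conj_apply, inv_inv]
    rw [mul_assoc, ← hcen g hg y hy, inv_mul_cancel_left]⟩
  have := (hrank B' hB'le hB'elem hZB' (by
    rintro _ ⟨⟨x, hx, rfl⟩, hxA⟩
    simp only [MulEquiv.coe_toMonoidHom, MulAut.conj_apply, inv_inv] at hxA ⊢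
    by_contra hxZ
    refine hnot _ hxA hxZ ?_
    rw [show g * (g⁻¹ * x * g) * g⁻¹ = x by group]
    exact hx.1)).1
  omega

/-- An invariant that is not constant forces normality. -/
theorem le_normalizer_of_types (hA : ∀ a ∈ A, a * a = 1) (hAL : A ≤ L) (hZA : Z ≤ A)
    (hcen : ∀ l ∈ L, ∀ y ∈ Z, l * y = y * l)
    (hfix : ∀ a ∈ A, a ∉ Z → ∀ g ∈ L, g⁻¹ * a * g ∈ normalizer (A : Set G) → g ∈ normalizer (A : Set G))
    {α : Type*} (τ : G → α) (hτ : ∀ l ∈ L, ∀ a ∈ A, ∀ y ∈ Z, τ (l * a * l⁻¹ * y) = τ a)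
    {a b : G} (ha : a ∈ A) (haZ : a ∉ Z) (hb : b ∈ A) (hbZ : b ∉ Z) (hab : τ a ≠ τ b) :
    L ≤ normalizer (A : Set G) := by
  classical
  intro g hg
  by_contra hgN
  have hZL : Z ≤ L := hZA.trans hAL
  let W : Subgroup ↥L := Z.subgroupOf L
  haveI : W.Normal := ⟨fun y hy l => by
    rw [mem_subgroupOf] at hy ⊢
    push_cast
    rw [hcen l l.2 _ hy, mul_inv_cancel_right]
    exact hy⟩
  set π := QuotientGroup.mk' W
  set Ab := (A.subgroupOf L).map π
  set Nb := ((normalizer (A : Set G)).subgroupOf L).map π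
  have hNb : ∀ x : ↥L, π x ∈ Nb → (x : G) ∈ normalizer (A : Set G) := by
    rintro x ⟨n, hn, hnx⟩
    obtain ⟨y, hy, rfl⟩ := (QuotientGroup.mk'_eq_mk' W).1 hnx
    push_cast
    exact mul_mem hn (le_normalizer (hZA hy))
  have hne : ∀ {x : G} (hx : x ∈ A), x ∉ Z → π ⟨x, hAL hx⟩ ≠ 1 := fun {x} hx hxZ h =>
    hxZ ((QuotientGroup.eq_one_iff (N := W) _).1 h)
  have key := conj_of_fix (A := Ab) (N := Nb) (map_mono fun x hx => le_normalizer hx)
    (by
      rintro _ ⟨x, hx, rfl⟩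
      rw [← map_mul, show x * x = 1 from Subtype.ext (hA _ hx), map_one])
    (by
      rintro _ ⟨n, hn, rfl⟩ _ ⟨x, hx, rfl⟩
      exact ⟨n * x * n⁻¹, (mem_normalizer_iff.1 hn _).1 hx, by simp⟩)
    (by
      rintro _ ⟨x, hx, rfl⟩ hx1 y hy
      obtain ⟨y, rfl⟩ := QuotientGroup.mk'_surjective W y
      rw [← map_inv, ← map_mul, ← map_mul] at hy
      refine ⟨y, hfix x hx (fun h => hx1 ((QuotientGroup.eq_one_iff _).2 h)) y y.2 ?_, rfl⟩
      exact hNb _ hy)
    (a := π ⟨a, hAL ha⟩) (b := π ⟨b, hAL hb⟩) (g := π ⟨g, hg⟩) ⟨_, ha, rfl⟩ (hne ha haZ) ⟨_, hb, rfl⟩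
    (hne hb hbZ) (fun h => hgN (hNb _ h))
  obtain ⟨d, hd⟩ := isConj_iff.1 key
  obtain ⟨d, rfl⟩ := QuotientGroup.mk'_surjective W d
  rw [← map_inv, ← map_inv, ← map_mul, ← map_mul, ← map_mul, ← map_mul] at hd
  obtain ⟨y, hy, hdy⟩ := (QuotientGroup.mk'_eq_mk' W).1 hd
  have h1 : (d : G) * a * (d : G)⁻¹ * y = g * b * g⁻¹ := congrArg Subtype.val hdy
  refine hab ?_
  have h2 := hτ (g⁻¹ * d) (mul_mem (inv_mem hg) d.2) a ha _ hy
  rw [← h2]
  congr 1
  calc g⁻¹ * (d : G) * a * (g⁻¹ * (d : G))⁻¹ * y = g⁻¹ * ((d : G) * a * (d : G)⁻¹) * (g * y) := by group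
    _ = g⁻¹ * ((d : G) * a * (d : G)⁻¹ * y) * g := by rw [show g * (y : G) = y * g from hcen g hg _ hy]; group
    _ = b := by rw [h1]; group

end CfsgLib.JankoFour.Centraliser
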