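import Mathlib
import Cfsg.Agent.Lib.M24Cert.ClassFacts
import Cfsg.Prelude.Def_Transfer

/-!
# Elementary abelian two-subgroups of point and pair stabilisers in the Mathieu group on 24 points
-/

set_option autoImplicit false

namespace CfsgLib.JankoFour.Centraliser

open Cfsg (GolayPt octads)
open CfsgLib.M24Cert CfsgLib.Golay
open scoped Pointwise

/-- An involution fixing a point fixes exactly an octad. -/
theorem fixed_octad {g : Equiv.Perm GolayPt} (hg : g ∈ Cfsg.M24) (ho : orderOf g = 2) {p : GolayPt} (hp : g p = p) :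
    (Finset.univ.filter fun x => g x = x) ∈ octads ∧ (Finset.univ.filter fun x => g x = x).card = 8 := by
  obtain ⟨u, hu, ⟨-, h0⟩ | ⟨e, h8⟩⟩ := inv_cases hg ho
  · exact absurd hp (fun h => by
      rw [Finset.card_eq_zero, Finset.filter_eq_empty_iff] at h0
      exact h0 (Finset.mem_univ p) h)
  · refine ⟨?_, h8⟩
    rw [e, conj_fixed_set]
    exact octads_smul hu elU_fixed_octad

theorem elem_point_bound {E : Subgroup (Equiv.Perm GolayPt)} (hE : E ≤ Cfsg.M24)
    (hel : Cfsg.IsElementaryAbelian 2 E) {p : GolayPt} (hp : ∀ g ∈ E, g p = p) : Nat.card E ≤ 16 := by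
  classical
  haveI := Fact.mk Nat.prime_two
  by_contra hgt
  have hP : IsPGroup 2 E := fun g => ⟨1, Subtype.ext (by simpa using hel.2 g g.2)⟩
  obtain ⟨k, hk⟩ := hP.exists_card_eq
  have h5 : 5 ≤ k := by
    by_contra h
    have : 2 ^ k ≤ 2 ^ 4 := Nat.pow_le_pow_right (by norm_num) (by omega)
    omega
  obtain ⟨D, hD⟩ := Sylow.exists_subgroup_card_pow_prime (G := E) 2 (n := 5) (by
    rw [hk]; exact pow_dvd_pow 2 h5)
  let E' : Subgroup (Equiv.Perm GolayPt) := D.map E.subtype
  have hE'le : E' ≤ E := Subgroup.map_subtype_le D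
  have hcard : Fintype.card E' = 32 := by
    rw [← Nat.card_eq_fintype_card, Subgroup.card_map_of_injective (Subgroup.subtype_injective E), hD]; norm_num
  have hfix : ∀ g : E', Fintype.card (MulAction.fixedBy GolayPt g) = if g = 1 then 24 else 8 := by
    intro g
    rw [show Fintype.card (MulAction.fixedBy GolayPt g) =
      (Finset.univ.filter fun x => (g : Equiv.Perm GolayPt) x = x).card from Fintype.card_of_subtype _ fun x => by
        simp [MulAction.mem_fixedBy, Subgroup.smul_def]]
    split_ifs with h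
    · subst h
      simp
    · have hg1 : (g : Equiv.Perm GolayPt) ≠ 1 := fun e => h (Subtype.ext e)
      exact (fixed_octad (hE (hE'le g.2)) (orderOf_eq_prime (hel.2 _ (hE'le g.2)) hg1) (hp _ (hE'le g.2))).2
  have hb := MulAction.sum_card_fixedBy_eq_card_orbits_mul_card_group E' GolayPt
  rw [Finset.sum_congr rfl (fun g _ => hfix g), ← Finset.add_sum_erase _ _ (Finset.mem_univ (1 : E')),
    if_pos rfl, Finset.sum_congr rfl (fun g hg => if_neg (Finset.mem_erase.1 hg).1), Finset.sum_const,
    Finset.card_erase_of_mem (Finset.mem_univ _), Finset.card_univ, hcard, smul_eq_mul] at hb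
  omega

theorem elem_pair_bound {E : Subgroup (Equiv.Perm GolayPt)} (hE : E ≤ Cfsg.M24)
    (hel : Cfsg.IsElementaryAbelian 2 E) {a b : GolayPt} (h : ∀ g ∈ E, g a = a ∨ g a = b) :
    Nat.card E ≤ 32 ∧ (2 < Nat.card E → ∃ g ∈ E, g ≠ 1 ∧ g a = a) := by
  classical
  set S := MulAction.stabilizer E a
  have hidx : S.index ≤ 2 := by
    rw [MulAction.index_stabilizer]
    refine (Set.ncard_le_ncard (t := {a, b}) ?_ (Set.toFinite _)).trans ?_
    · rintro _ ⟨g, rfl⟩
      exact h g g.2
    · exact (Set.ncard_insert_le _ _).trans (by rw [Set.ncard_singleton])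
  have hS : Nat.card S ≤ 16 := by
    rw [← Subgroup.card_map_of_injective (Subgroup.subtype_injective E) (K := S)]
    refine elem_point_bound ((Subgroup.map_subtype_le S).trans hE)
      ⟨⟨⟨fun x y => Subtype.ext ?_⟩⟩, fun x hx => hel.2 x (Subgroup.map_subtype_le S hx)⟩ (p := a) ?_
    · have h' := congrArg Subtype.val
        (hel.1.is_comm.comm ⟨x, Subgroup.map_subtype_le S x.2⟩ ⟨y, Subgroup.map_subtype_le S y.2⟩)
      simpa using h'
    · rintro _ ⟨g, hg, rfl⟩
      exact hg
  have hm := S.card_mul_index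
  refine ⟨by rw [← hm]; exact (Nat.mul_le_mul hS hidx).trans (by norm_num), fun h2 => ?_⟩
  by_contra hno
  have : S = ⊥ := (Subgroup.eq_bot_iff_forall _).2 fun g hg => by
    by_contra hg1
    exact hno ⟨g, g.2, fun e => hg1 (Subtype.ext e), hg⟩
  rw [this, Subgroup.card_bot, one_mul] at hm
  rw [this] at hidx
  omega

end CfsgLib.JankoFour.Centraliser
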