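import Mathlib
import Cfsg.Agent.Lib.JankoFour.Centraliser.Level
import Cfsg.Agent.Lib.JankoFour.Centraliser.M24Local

/-!
# An elementary group of order `2^11` labelled by pairs contains the centralisers of its pair elements

`A` is elementary abelian of order `2^11`, its non-identity elements outside the class of `z` are labelled by the
pairs of 24 points, compatibly with the action of the normaliser. If the centraliser of a pair element and an element
of the class of `z` normalises `A`, then so does the centraliser of a pair element.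
-/

set_option autoImplicit false
set_option linter.unusedSectionVars false

namespace CfsgLib.JankoFour.Centraliser

open Subgroup
open Cfsg (GolayPt)

variable {G : Type*} [Group G] [Finite G]

/-- A point outside a short list. -/
theorem exists_off (s : List GolayPt) (hs : s.length < 24) : ∃ d, d ∉ s := by
  classical
  by_contra h
  simp only [not_exists, not_not] at h
  have h1 : (Finset.univ : Finset GolayPt).card ≤ s.toFinset.card :=
    Finset.card_le_card fun x _ => List.mem_toFinset.2 (h x)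
  have := s.toFinset_card_le
  have h24 : Fintype.card GolayPt = 24 := by decide
  rw [Finset.card_univ, h24] at h1
  omega

/-- The labelled elementary group. -/
structure Frame (z : G) (A : Subgroup G) (f : GolayPt → G)
    (ψ : ↥(normalizer (A : Set G)) →* Equiv.Perm GolayPt) : Prop where
  elem : Cfsg.IsElementaryAbelian 2 A
  card : Nat.card A = 2 ^ 11
  mem : ∀ a, f a ∈ A
  uniq : ∀ g : G, (∀ a ∈ A, g * a * g⁻¹ ∈ normalizer (A : Set G)) → g ∈ normalizer (A : Set G)
  pair : ∀ a b, a ≠ b → f a * f b ≠ 1 ∧ ¬ IsConj z (f a * f b)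
  cover : ∀ x ∈ A, x ≠ 1 → ¬ IsConj z x → ∃ a b, a ≠ b ∧ f a * f b = x
  inj : ∀ a b c d, a ≠ b → c ≠ d → f a * f b = f c * f d → a = c ∧ b = d ∨ a = d ∧ b = c
  adj : ∀ a b c d, a ≠ c → a ≠ d → b ≠ c → b ≠ d → a ≠ b → c ≠ d → ∀ e g, e ≠ g →
    f a * f b * (f c * f d) ≠ f e * f g
  act : ∀ (m : ↥(normalizer (A : Set G))) a b,
    (m : G) * (f a * f b) * (m : G)⁻¹ = f (ψ m a) * f (ψ m b)
  ker : ∀ m, ψ m = 1 ↔ (m : G) ∈ A
  range : ψ.range ≤ Cfsg.M24
  fix128 : ∀ (m : ↥(normalizer (A : Set G))) a, orderOf (ψ m) = 2 → ψ m a = a →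
    128 ≤ Nat.card ↥(A ⊓ centralizer ({(m : G)} : Set G))
  cent2 : ∀ x ∈ A, ∀ y ∈ A, x ≠ 1 → ¬ IsConj z x → IsConj z y → ∀ g : G, g * x = x * g → g * y = y * g →
    g ∈ normalizer (A : Set G)

namespace Frame

variable {z : G} {A : Subgroup G} {f : GolayPt → G} {ψ : ↥(normalizer (A : Set G)) →* Equiv.Perm GolayPt}
  (F : Frame z A f ψ)

include F

theorem comm {x y : G} (hx : x ∈ A) (hy : y ∈ A) : x * y = y * x :=
  congrArg Subtype.val (F.elem.1.is_comm.comm ⟨x, hx⟩ ⟨y, hy⟩)

theorem sq {x : G} (hx : x ∈ A) : x * x = 1 := by rw [← _root_.sq]; exact F.elem.2 x hx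

theorem pr (a b : GolayPt) : f a * f b ∈ A := mul_mem (F.mem a) (F.mem b)

theorem swap (a b : GolayPt) : f a * f b = f b * f a := F.comm (F.mem a) (F.mem b)

theorem meet (a b c : GolayPt) : f a * f b * (f a * f c) = f b * f c := by
  rw [F.swap a b]
  calc f b * f a * (f a * f c) = f b * (f a * f a) * f c := by group
    _ = f b * f c := by rw [F.sq (F.mem a), mul_one]

theorem fix_pair {m : ↥(normalizer (A : Set G))} {a b : GolayPt} (hab : a ≠ b)
    (h : (m : G) * (f a * f b) = f a * f b * m) : ψ m a = a ∧ ψ m b = b ∨ ψ m a = b ∧ ψ m b = a :=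
  F.inj _ _ _ _ (fun e => hab ((ψ m).injective e)) hab (by rw [← F.act, h, mul_inv_cancel_right])

theorem zs_of_disjoint {a b c d : GolayPt} (hac : a ≠ c) (had : a ≠ d) (hbc : b ≠ c) (hbd : b ≠ d) (hab : a ≠ b)
    (hcd : c ≠ d) : IsConj z (f a * f b * (f c * f d)) := by
  by_contra h
  have hne : f a * f b * (f c * f d) ≠ 1 := fun e => by
    have e' : f a * f b = f c * f d := by
      calc f a * f b = f a * f b * ((f c * f d) * (f c * f d)) := by rw [F.sq (F.pr c d), mul_one]
        _ = f c * f d := by rw [← mul_assoc, e, one_mul]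
    rcases F.inj _ _ _ _ hab hcd e' with ⟨h1, -⟩ | ⟨h1, -⟩
    · exact hac h1
    · exact had h1
  obtain ⟨e, g, heg, h'⟩ := F.cover _ (mul_mem (F.pr a b) (F.pr c d)) hne h
  exact F.adj a b c d hac had hbc hbd hab hcd e g heg h'.symm

/-- The rank hypothesis at a level. -/
theorem rank {L Z : Subgroup G} {k : ℕ} (hZA : Z ≤ A) (hk : k * Nat.card Z ≤ 64)
    (hbound : ∀ E : Subgroup (Equiv.Perm GolayPt), E ≤ Cfsg.M24 → Cfsg.IsElementaryAbelian 2 E →
      (∀ g ∈ E, ∃ m : ↥(normalizer (A : Set G)), (m : G) ∈ L ∧ ψ m = g) → Nat.card E ≤ k ∧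
        (k ≤ Nat.card E → ∃ g ∈ E, g ≠ 1 ∧ ∃ a, g a = a)) :
    ∀ B : Subgroup G, B ≤ L ⊓ normalizer (A : Set G) → Cfsg.IsElementaryAbelian 2 B → Z ≤ B →
      B ⊓ A ≤ Z → Nat.card B ≤ 64 ∧ (64 ≤ Nat.card B → ∃ b ∈ B, b ∉ Z ∧
        128 ≤ Nat.card ↥(A ⊓ centralizer ({b} : Set G))) := by
  classical
  haveI := Fact.mk Nat.prime_two
  intro B hB hel _ hBA
  let χ : ↥B →* Equiv.Perm GolayPt := ψ.comp (Subgroup.inclusion (hB.trans inf_le_right))
  have hχM : χ.range ≤ Cfsg.M24 := by
    rintro _ ⟨b, rfl⟩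
    exact F.range ⟨_, rfl⟩
  have hχel : Cfsg.IsElementaryAbelian 2 χ.range := by
    refine ⟨⟨⟨?_⟩⟩, ?_⟩
    · rintro ⟨_, x, rfl⟩ ⟨_, y, rfl⟩
      refine Subtype.ext ?_
      show χ x * χ y = χ y * χ x
      rw [← map_mul, ← map_mul, hel.1.is_comm.comm x y]
    · rintro _ ⟨x, rfl⟩
      rw [← map_pow, show x ^ 2 = 1 from Subtype.ext (by simpa using hel.2 _ x.2), map_one]
  obtain ⟨hle, hbig⟩ := hbound χ.range hχM hχel fun g hg => by
    obtain ⟨b, rfl⟩ := hg
    exact ⟨Subgroup.inclusion (hB.trans inf_le_right) b, (hB b.2).1, rfl⟩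
  have hker : Nat.card χ.ker ≤ Nat.card Z := by
    refine Nat.card_le_card_of_injective (fun x : χ.ker => (⟨((x : ↥B) : G), hBA ⟨(x : ↥B).2,
      (F.ker _).1 (MonoidHom.mem_ker.1 x.2)⟩⟩ : Z)) fun x y e => Subtype.ext (Subtype.ext ?_)
    exact congrArg (fun w : Z => (w : G)) e
  have hm := χ.ker.card_mul_index
  rw [index_ker] at hm
  refine ⟨?_, fun h64 => ?_⟩
  · rw [← hm]
    calc Nat.card χ.ker * Nat.card χ.range ≤ Nat.card Z * k := Nat.mul_le_mul hker hle
      _ ≤ 64 := by rw [mul_comm]; exact hk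
  · have hkle : k ≤ Nat.card χ.range := by
      by_contra hlt
      have h1 : Nat.card χ.ker * Nat.card χ.range ≤ Nat.card Z * Nat.card χ.range :=
        Nat.mul_le_mul_right _ hker
      have h2 : Nat.card Z * Nat.card χ.range < Nat.card Z * k :=
        (Nat.mul_lt_mul_left Nat.card_pos).2 (not_le.1 hlt)
      have h3 : Nat.card Z * k ≤ 64 := by rw [mul_comm]; exact hk
      omega
    obtain ⟨g, ⟨b, rfl⟩, hg1, a, ha⟩ := hbig hkle
    refine ⟨b, b.2, fun hbZ => hg1 ?_, F.fix128 (Subgroup.inclusion (hB.trans inf_le_right) b) a ?_ ha⟩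
    · exact (F.ker (Subgroup.inclusion (hB.trans inf_le_right) b)).2 (hZA hbZ)
    · exact orderOf_eq_prime (hχel.2 _ ⟨b, rfl⟩) hg1

/-- Membership in the four-group of two commuting involutions. -/
theorem four_cases {t x : G} (ht : t ∈ A) (hx : x ∈ A) {y : G} (hy : y ∈ closure ({t, x} : Set G)) :
    y = 1 ∨ y = t ∨ y = x ∨ y = t * x := by
  have htt := F.sq ht
  have hxx := F.sq hx
  have htx := F.comm ht hx
  induction hy using closure_induction with
  | mem w hw => rcases hw with rfl | rfl <;> simp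
  | one => simp
  | mul u v _ _ hu hv =>
    have a1 : t * (t * x) = x := by rw [← mul_assoc, htt, one_mul]
    have a2 : x * (t * x) = t := by rw [htx, ← mul_assoc, hxx, one_mul]
    have a3 : t * x * t = x := by rw [htx, mul_assoc, htt, mul_one]
    have a4 : t * x * x = t := by rw [mul_assoc, hxx, mul_one]
    have a5 : t * x * (t * x) = 1 := F.sq (mul_mem ht hx)
    rcases hu with rfl | rfl | rfl | rfl <;> rcases hv with rfl | rfl | rfl | rfl
    all_goals simp only [htt, hxx, a1, a2, a3, a4, a5, ← htx, one_mul, mul_one, or_true, true_or]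
  | inv u _ hu =>
    rcases hu with rfl | rfl | rfl | rfl
    · simp
    · exact Or.inr (Or.inl (inv_eq_of_mul_eq_one_right htt))
    · exact Or.inr (Or.inr (Or.inl (inv_eq_of_mul_eq_one_right hxx)))
    · exact Or.inr (Or.inr (Or.inr (inv_eq_of_mul_eq_one_right (F.sq (mul_mem ht hx)))))

/-- The type of an element modulo a central subgroup: two members of the coset are pair elements. -/
def twoPairs (z : G) (Z : Subgroup G) (y : G) : Prop :=
  ∃ w ∈ Z, ∃ w' ∈ Z, w ≠ w' ∧ ¬ IsConj z (y * w) ∧ ¬ IsConj z (y * w')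

theorem twoPairs_conj {L Z : Subgroup G} (hcen : ∀ l ∈ L, ∀ w ∈ Z, l * w = w * l) :
    ∀ l ∈ L, ∀ a ∈ A, ∀ y ∈ Z, twoPairs z Z (l * a * l⁻¹ * y) = twoPairs z Z a := by
  intro l hl a _ y hy
  have key : ∀ w ∈ Z, IsConj z (l * a * l⁻¹ * y * w) ↔ IsConj z (a * (y * w)) := by
    intro w hw
    have e : l * a * l⁻¹ * y * w = l * (a * (y * w)) * l⁻¹ := by
      calc l * a * l⁻¹ * y * w = l * a * l⁻¹ * ((y * w) * l) * l⁻¹ := by group
        _ = l * (a * (y * w)) * l⁻¹ := by rw [← hcen l hl _ (mul_mem hy hw)]; group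
    rw [e]
    exact ⟨fun h => h.trans (isConj_iff.2 ⟨l, rfl⟩).symm, fun h => h.trans (isConj_iff.2 ⟨l, rfl⟩)⟩
  refine propext ⟨?_, ?_⟩
  · rintro ⟨w, hw, w', hw', hne, h1, h2⟩
    exact ⟨y * w, mul_mem hy hw, y * w', mul_mem hy hw', fun e => hne (mul_left_cancel e),
      fun h => h1 ((key w hw).2 h), fun h => h2 ((key w' hw').2 h)⟩
  · rintro ⟨w, hw, w', hw', hne, h1, h2⟩
    refine ⟨y⁻¹ * w, mul_mem (inv_mem hy) hw, y⁻¹ * w', mul_mem (inv_mem hy) hw',
      fun e => hne (mul_left_cancel e), fun h => h1 ?_, fun h => h2 ?_⟩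
    · simpa [← mul_assoc] using (key _ (mul_mem (inv_mem hy) hw)).1 h
    · simpa [← mul_assoc] using (key _ (mul_mem (inv_mem hy) hw')).1 h

theorem le_cent {x : G} (hx : x ∈ A) : A ≤ centralizer ({x} : Set G) := fun _ hy =>
  mem_centralizer_singleton_iff.2 (F.comm hy hx)

/-- Two pair elements with a common point. -/
theorem triangle {a b c : GolayPt} (hab : a ≠ b) (hac : a ≠ c) (hbc : b ≠ c) :
    centralizer ({f a * f b} : Set G) ⊓ centralizer ({f a * f c} : Set G) ≤ normalizer (A : Set G) := by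
  classical
  set t := f a * f b
  set x := f a * f c
  set L := centralizer ({t} : Set G) ⊓ centralizer ({x} : Set G)
  set Z := closure ({t, x} : Set G)
  have htA := F.pr a b
  have hxA := F.pr a c
  have hZA : Z ≤ A := (closure_le _).2 (by rintro w (rfl | rfl) <;> assumption)
  have hAL : A ≤ L := le_inf (F.le_cent htA) (F.le_cent hxA)
  have hlt : ∀ l ∈ L, l * t = t * l := fun l hl => mem_centralizer_singleton_iff.1 hl.1
  have hlx : ∀ l ∈ L, l * x = x * l := fun l hl => mem_centralizer_singleton_iff.1 hl.2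
  have hcen : ∀ l ∈ L, ∀ y ∈ Z, l * y = y * l := by
    intro l hl y hy
    rcases F.four_cases htA hxA hy with rfl | rfl | rfl | rfl
    · simp
    · exact hlt l hl
    · exact hlx l hl
    · exact (Commute.mul_right (show Commute l t from hlt l hl) (hlx l hl))
  have htZ : t ∈ Z := subset_closure (Or.inl rfl)
  have hxZ : x ∈ Z := subset_closure (Or.inr rfl)
  have htx : t * x = f b * f c := F.meet a b c
  have hcent : ∀ y ∈ A, y ∉ Z → ∀ l ∈ L, l * y = y * l → l ∈ normalizer (A : Set G) := by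
    intro y hy hyZ l hl hly
    by_cases hex : ∃ w ∈ Z, IsConj z (y * w)
    · obtain ⟨w, hw, hyw⟩ := hex
      exact F.cent2 t htA _ (mul_mem hy (hZA hw)) (F.pair a b hab).1 (F.pair a b hab).2 hyw l (hlt l hl)
        (by rw [← mul_assoc, hly, mul_assoc, hcen l hl w hw, mul_assoc])
    · exfalso
      simp only [not_exists, not_and] at hex
      have hne : ∀ w ∈ Z, y * w ≠ 1 := fun w hw e => hyZ (by
        rw [eq_inv_of_mul_eq_one_left e]; exact inv_mem hw)
      obtain ⟨d, e, hde, hy'⟩ := F.cover y hy (fun e => hyZ (e ▸ one_mem Z)) (fun h => hex 1 (one_mem Z) (by rwa [mul_one]))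
      have hmeet : ∀ u v, u ≠ v → f u * f v ∈ Z → u = d ∨ u = e ∨ v = d ∨ v = e := by
        intro u v huv huvZ
        by_contra hcon
        simp only [not_or] at hcon
        refine hex _ huvZ ?_
        rw [← hy']
        exact F.zs_of_disjoint (Ne.symm hcon.1) (Ne.symm hcon.2.2.1) (Ne.symm hcon.2.1) (Ne.symm hcon.2.2.2) hde huv
      have h1 := hmeet a b hab htZ
      have h2 := hmeet a c hac hxZ
      have h3 := hmeet b c hbc (htx ▸ mul_mem htZ hxZ)
      have hin : (d = a ∧ e = b) ∨ (d = b ∧ e = a) ∨ (d = a ∧ e = c) ∨ (d = c ∧ e = a) ∨ (d = b ∧ e = c) ∨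
          (d = c ∧ e = b) := by
        rcases h1 with h1 | h1 | h1 | h1 <;> rcases h2 with h2 | h2 | h2 | h2 <;>
          rcases h3 with h3 | h3 | h3 | h3 <;> subst_vars <;> simp_all
      refine hyZ ?_
      rw [← hy']
      have hbcZ : f b * f c ∈ Z := htx ▸ mul_mem htZ hxZ
      rcases hin with h | h | h | h | h | h <;> rw [h.1, h.2]
      exacts [htZ, F.swap b a ▸ htZ, hxZ, F.swap c a ▸ hxZ, hbcZ, F.swap c b ▸ hbcZ]
  have hZcard : Nat.card Z ≤ 4 := by
    have h : (Z : Set G) ⊆ (({1, t, x, t * x} : Finset G) : Set G) := fun y hy => by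
      simpa using F.four_cases htA hxA hy
    have h' := Set.ncard_le_ncard h (Set.toFinite _)
    rw [Set.ncard_coe_finset] at h'
    exact le_trans h' (Finset.card_le_four)
  have hfix := fix_of_cent F.elem F.card hAL hZA hcen hcent (fun g _ h => F.uniq g h)
    (F.rank (k := 16) hZA (by omega) (fun E hE hel hmem => by
      have hpt : ∀ g ∈ E, g a = a := by
        intro g hg
        obtain ⟨m, hm, rfl⟩ := hmem g hg
        rcases F.fix_pair hab (hlt _ hm) with h | h
        · exact h.1
        · rcases F.fix_pair hac (hlx _ hm) with h' | h'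
          · exact h'.1
          · exact absurd (h.1.symm.trans h'.1) hbc
      refine ⟨elem_point_bound hE hel hpt, fun h16 => ?_⟩
      haveI : Nontrivial E := Finite.one_lt_card_iff_nontrivial.1 (by omega)
      obtain ⟨g, hg⟩ := exists_ne (1 : E)
      exact ⟨g, g.2, fun e => hg (Subtype.ext e), a, hpt g g.2⟩))
  obtain ⟨d, hd⟩ := exists_off [a, b, c] (by simp)
  simp only [List.mem_cons, List.not_mem_nil, or_false, not_or] at hd
  obtain ⟨e, he⟩ := exists_off [a, b, c, d] (by simp)
  simp only [List.mem_cons, List.not_mem_nil, or_false, not_or] at he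
  have hout : ∀ u v, u ≠ v → f u * f v ∈ Z → u = a ∨ u = b ∨ u = c := by
    intro u v huv h
    rcases F.four_cases htA hxA h with e1 | e1 | e1 | e1
    · exact absurd e1 (F.pair u v huv).1
    · rcases F.inj u v a b huv hab e1 with h | h <;> simp [h.1]
    · rcases F.inj u v a c huv hac e1 with h | h <;> simp [h.1]
    · rcases F.inj u v b c huv hbc (e1.trans htx) with h | h <;> simp [h.1]
  refine le_normalizer_of_types (fun y hy => F.sq hy) hAL hZA hcen hfix (twoPairs z Z)
    (F.twoPairs_conj hcen) (a := f d * f a) (b := f d * f e) (F.pr d a) (fun h => ?_) (F.pr d e) (fun h => ?_) ?_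
  · rcases hout d a hd.1 h with h | h | h
    exacts [hd.1 h, hd.2.1 h, hd.2.2 h]
  · rcases hout d e (Ne.symm he.2.2.2) h with h | h | h
    exacts [hd.1 h, hd.2.1 h, hd.2.2 h]
  · intro heq
    have h1 : twoPairs z Z (f d * f a) := by
      refine ⟨1, one_mem Z, t, htZ, fun e1 => (F.pair a b hab).1 e1.symm, ?_, ?_⟩
      · rw [mul_one]; exact (F.pair d a hd.1).2
      · rw [F.swap d a, F.meet a d b]; exact (F.pair d b hd.2.1).2
    obtain ⟨w, hw, w', hw', hne, hc1, hc2⟩ : twoPairs z Z (f d * f e) := heq ▸ h1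
    have key : ∀ v ∈ Z, ¬ IsConj z (f d * f e * v) → v = 1 := by
      intro v hv hv'
      rcases F.four_cases htA hxA hv with rfl | rfl | rfl | rfl
      · rfl
      · exact absurd (F.zs_of_disjoint hd.1 hd.2.1 he.1 he.2.1 (Ne.symm he.2.2.2) hab) hv'
      · exact absurd (F.zs_of_disjoint hd.1 hd.2.2 he.1 he.2.2.1 (Ne.symm he.2.2.2) hac) hv'
      · exact absurd (F.zs_of_disjoint hd.2.1 hd.2.2 he.2.1 he.2.2.1 (Ne.symm he.2.2.2) hbc) (htx ▸ hv')
    exact hne ((key w hw hc1).trans (key w' hw' hc2).symm)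

/-- The centraliser of a pair element normalises the elementary group. -/
theorem centralizer_le {t : G} (ht : t ∈ A) (ht1 : t ≠ 1) (htz : ¬ IsConj z t) :
    centralizer ({t} : Set G) ≤ normalizer (A : Set G) := by
  classical
  obtain ⟨a, b, hab, rfl⟩ := F.cover t ht ht1 htz
  set t := f a * f b
  set Z := closure ({t} : Set G)
  set L := centralizer ({t} : Set G)
  have hZA : Z ≤ A := (closure_le _).2 (by simpa using ht)
  have hAL : A ≤ L := F.le_cent ht
  have hcases : ∀ y ∈ Z, y = 1 ∨ y = t := by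
    intro y hy
    induction hy using closure_induction with
    | mem w hw => exact Or.inr hw
    | one => exact Or.inl rfl
    | mul u v _ _ hu hv => rcases hu with rfl | rfl <;> rcases hv with rfl | rfl <;> simp [F.sq ht]
    | inv u _ hu =>
      rcases hu with rfl | rfl
      · simp
      · exact Or.inr (inv_eq_of_mul_eq_one_right (F.sq ht))
  have hlt : ∀ l ∈ L, l * t = t * l := fun l hl => mem_centralizer_singleton_iff.1 hl
  have hcen : ∀ l ∈ L, ∀ y ∈ Z, l * y = y * l := by
    intro l hl y hy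
    rcases hcases y hy with rfl | rfl
    · simp
    · exact hlt l hl
  have htZ : t ∈ Z := subset_closure rfl
  have hcent : ∀ y ∈ A, y ∉ Z → ∀ l ∈ L, l * y = y * l → l ∈ normalizer (A : Set G) := by
    intro y hy hyZ l hl hly
    have hy1 : y ≠ 1 := fun e => hyZ (e ▸ one_mem Z)
    by_cases hyz : IsConj z y
    · exact F.cent2 t ht y hy ht1 htz hyz l (hlt l hl) hly
    obtain ⟨d, e, hde, rfl⟩ := F.cover y hy hy1 hyz
    by_cases hmeet : a = d ∨ a = e ∨ b = d ∨ b = e
    · have hl2 : ∀ {u v w : GolayPt}, u ≠ v → u ≠ w → f u * f v = t → f u * f w = f d * f e →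
          l ∈ normalizer (A : Set G) := by
        intro u v w huv huw hu hw
        by_cases hvw : v = w
        · exact absurd (by rw [← hw, ← hvw, hu]; exact htZ) hyZ
        refine F.triangle huv huw hvw ⟨mem_centralizer_singleton_iff.2 ?_, mem_centralizer_singleton_iff.2 ?_⟩
        · rw [hu]; exact hlt l hl
        · rw [hw]; exact hly
      rcases hmeet with rfl | rfl | rfl | rfl
      · exact hl2 hab hde rfl rfl
      · exact hl2 hab hde.symm rfl (F.swap a d)
      · exact hl2 hab.symm hde (F.swap b a) rfl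
      · exact hl2 hab.symm hde.symm (F.swap b a) (F.swap b d)
    · simp only [not_or] at hmeet
      exact F.cent2 t ht (t * (f d * f e)) (mul_mem ht hy) ht1 htz
        (F.zs_of_disjoint hmeet.1 hmeet.2.1 hmeet.2.2.1 hmeet.2.2.2 hab hde) l (hlt l hl)
        (Commute.mul_right (show Commute l t from hlt l hl) hly)
  have hZcard : Nat.card Z ≤ 2 := by
    have h : (Z : Set G) ⊆ (({1, t} : Finset G) : Set G) := fun y hy => by
      simpa using hcases y hy
    have h' := Set.ncard_le_ncard h (Set.toFinite _)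
    rw [Set.ncard_coe_finset] at h'
    exact le_trans h' Finset.card_le_two
  have hfix := fix_of_cent F.elem F.card hAL hZA hcen hcent (fun g _ h => F.uniq g h)
    (F.rank (k := 32) hZA (by omega) (fun E hE hel hmem => by
      obtain ⟨h1, h2⟩ := elem_pair_bound hE hel (a := a) (b := b) (fun g hg => by
        obtain ⟨m, hm, rfl⟩ := hmem g hg
        rcases F.fix_pair hab (hlt _ hm) with h | h
        · exact Or.inl h.1
        · exact Or.inr h.1)
      refine ⟨h1, fun h32 => ?_⟩
      obtain ⟨g, hg, hg1, hga⟩ := h2 (by omega)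
      exact ⟨g, hg, hg1, a, hga⟩))
  obtain ⟨d, hd⟩ := exists_off [a, b] (by simp)
  simp only [List.mem_cons, List.not_mem_nil, or_false, not_or] at hd
  obtain ⟨e, he⟩ := exists_off [a, b, d] (by simp)
  simp only [List.mem_cons, List.not_mem_nil, or_false, not_or] at he
  have hde : d ≠ e := Ne.symm he.2.2
  have hout : ∀ v, d ≠ v → f d * f v ∉ Z := by
    intro v hdv h
    rcases hcases _ h with e1 | e1
    · exact (F.pair d v hdv).1 e1
    · rcases F.inj d v a b hdv hab e1 with h | h
      exacts [hd.1 h.1, hd.2 h.1]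
  refine le_normalizer_of_types (fun y hy => F.sq hy) hAL hZA hcen hfix (twoPairs z Z)
    (F.twoPairs_conj hcen) (a := f d * f a) (b := f d * f e) (F.pr d a) (hout a hd.1) (F.pr d e) (hout e hde) ?_
  intro heq
  have h1 : twoPairs z Z (f d * f a) := by
    refine ⟨1, one_mem Z, t, htZ, fun e1 => (F.pair a b hab).1 e1.symm, ?_, ?_⟩
    · rw [mul_one]; exact (F.pair d a hd.1).2
    · rw [F.swap d a, F.meet a d b]; exact (F.pair d b hd.2).2
  obtain ⟨w, hw, w', hw', hne, hc1, hc2⟩ : twoPairs z Z (f d * f e) := heq ▸ h1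
  have key : ∀ v ∈ Z, ¬ IsConj z (f d * f e * v) → v = 1 := by
    intro v hv hv'
    rcases hcases v hv with rfl | rfl
    · rfl
    · exact absurd (F.zs_of_disjoint hd.1 hd.2 he.1 he.2.1 hde hab) hv'
  exact hne ((key w hw hc1).trans (key w' hw' hc2).symm)

end Frame

end CfsgLib.JankoFour.Centraliser
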