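import Mathlib
import Cfsg.Agent.Lib.JankoFour.Centraliser.Frame
import Cfsg.Agent.Lib.LargeFischer.Thompson.Code

/-!
# A frame from a labelling by pairs
-/

set_option autoImplicit false
set_option linter.unusedSectionVars false

namespace CfsgLib.JankoFour.Centraliser

open Subgroup
open Cfsg (GolayPt octads)
open CfsgLib.LargeFischer.Thompson (Pairing)
open scoped symmDiff Pointwise

theorem symmDiff_facts {α : Type*} [DecidableEq α] (S S' P F : Finset α) (hS : Disjoint S P) (hS' : Disjoint S' P) :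
    (S ∪ P) ∆ S' = S ∆ S' ∪ P ∧ (S ∪ P) ∆ (S' ∪ P) = S ∆ S' ∧
      (Disjoint P F → S ⊆ F → (S ∪ P) ∆ F = (F \ S) ∪ P) := by
  refine ⟨?_, ?_, fun hPF hSF => ?_⟩ <;> ext y <;>
    simp only [Finset.mem_symmDiff, Finset.mem_union, Finset.mem_sdiff]
  · have a1 := (fun h => Finset.disjoint_left.1 hS h : y ∈ S → y ∉ P)
    have a2 := (fun h => Finset.disjoint_left.1 hS' h : y ∈ S' → y ∉ P)
    tauto
  · have a1 := (fun h => Finset.disjoint_left.1 hS h : y ∈ S → y ∉ P)
    have a2 := (fun h => Finset.disjoint_left.1 hS' h : y ∈ S' → y ∉ P)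
    tauto
  · have a1 := (fun h => Finset.disjoint_left.1 hPF h : y ∈ P → y ∉ F)
    have a2 := @hSF y
    tauto

section Code

variable {B : Type*} [CommGroup B] [Finite B] {N : Set B} {f : GolayPt → B} (h : Pairing N f)
  (hblk : {b : Finset GolayPt | b.card = 8 ∧ b.prod f = 1} = octads)
include h hblk

/-- An automorphism acting as an involution with a fixed point fixes at least 128 elements. -/
theorem fixed_count {α : B ≃* B} {σ : Equiv.Perm GolayPt} (e : ∀ a b, α (f a * f b) = f (σ a) * f (σ b))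
    (hσ : σ ∈ Cfsg.M24) (ho : orderOf σ = 2) {p : GolayPt} (hp : σ p = p) :
    128 ≤ Nat.card {x : B // α x = x} := by
  classical
  obtain ⟨hoct, h8⟩ := fixed_octad hσ ho hp
  set F0 := Finset.univ.filter fun x => σ x = x with hF0
  have hF1 : F0.prod f = 1 := (hblk.symm ▸ hoct : F0 ∈ {b : Finset GolayPt | b.card = 8 ∧ b.prod f = 1}).2
  have hmF : ∀ {x}, x ∈ F0 ↔ σ x = x := fun {x} => by simp [hF0]
  obtain ⟨q, hqF, hqp⟩ := Finset.exists_mem_ne (show 1 < F0.card by omega) p
  set R := (F0.erase p).erase q with hR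
  have hR6 : R.card = 6 := by
    rw [hR, Finset.card_erase_of_mem (Finset.mem_erase.2 ⟨hqp, hqF⟩), Finset.card_erase_of_mem (hmF.2 hp), h8]
  obtain ⟨x, -, hx⟩ := Finset.exists_mem_notMem_of_card_lt_card (s := F0) (t := Finset.univ)
    (by rw [h8, Finset.card_univ]; decide)
  have hσx : σ x ≠ x := fun e' => hx (hmF.2 e')
  have hσσ : ∀ y, σ (σ y) = y := fun y => by
    have h2 : σ * σ = 1 := by rw [← sq, ← ho, pow_orderOf_eq_one]
    exact congrArg (fun τ : Equiv.Perm GolayPt => τ y) h2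
  set P : Finset GolayPt := {x, σ x}
  have hP2 : P.card = 2 := Finset.card_pair hσx.symm
  have hPF : Disjoint P F0 := by
    rw [Finset.disjoint_left]
    intro y hy hyF
    rcases Finset.mem_insert.1 hy with rfl | hy'
    · exact hx hyF
    · rw [Finset.mem_singleton.1 hy'] at hyF
      have := hmF.1 hyF
      rw [hσσ] at this
      exact hσx this.symm
  let ev : Finset GolayPt → Finset GolayPt := fun S => if Even S.card then S else insert p S
  let val : Finset GolayPt × Bool → Finset GolayPt := fun i => if i.2 then ev i.1 ∪ P else ev i.1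
  have hpR : ∀ {S}, S ⊆ R → p ∉ S := fun {S} hS hpS => by
    have := hS hpS
    simp [hR] at this
  have hev : ∀ {S}, S ⊆ R → ev S ⊆ F0.erase q ∧ 2 ∣ (ev S).card ∧ (ev S).erase p = S := by
    intro S hS
    have hsub : S ⊆ F0.erase q := fun y hy => by
      have := hS hy
      simp only [hR, Finset.mem_erase] at this
      exact Finset.mem_erase.2 ⟨this.1, this.2.2⟩
    simp only [ev]
    split_ifs with hS2
    · exact ⟨hsub, hS2.two_dvd, Finset.erase_eq_of_notMem (hpR hS)⟩
    · refine ⟨Finset.insert_subset (Finset.mem_erase.2 ⟨hqp.symm, hmF.2 hp⟩) hsub, ?_,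
        Finset.erase_insert (hpR hS)⟩
      rw [Finset.card_insert_of_notMem (hpR hS)]
      exact even_iff_two_dvd.1 (Nat.not_even_iff_odd.1 hS2).add_one
  have hval : ∀ i : Finset GolayPt × Bool, i.1 ⊆ R → 2 ∣ (val i).card ∧ (val i).image σ = val i := by
    rintro ⟨S, bo⟩ hS
    replace hS : S ⊆ R := hS
    obtain ⟨hsub, h2, -⟩ := hev hS
    have hfixS : (ev S).image σ = ev S := by
      exact (Finset.image_congr (g := id) (fun y hy => hmF.1 (Finset.mem_of_mem_erase (hsub hy)))).trans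
        Finset.image_id
    have hPimg : P.image σ = P := by
      simp only [P, Finset.image_insert, Finset.image_singleton, hσσ, Finset.pair_comm]
    cases bo
    · exact ⟨h2, hfixS⟩
    · refine ⟨?_, by simp only [val, if_true, Finset.image_union, hfixS, hPimg]⟩
      simp only [val, if_true]
      rw [Finset.card_union_of_disjoint (Finset.disjoint_of_subset_left (hsub.trans (Finset.erase_subset _ _)) hPF.symm),
        hP2]
      omega
  have hinj : ∀ i j : Finset GolayPt × Bool, i.1 ⊆ R → j.1 ⊆ R → (val i).prod f = (val j).prod f → i = j := by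
    rintro ⟨S, bo⟩ ⟨S', bo'⟩ hS hS' heq
    replace hS : S ⊆ R := hS
    replace hS' : S' ⊆ R := hS'
    obtain ⟨hsub, h2, he⟩ := hev hS
    obtain ⟨hsub', h2', he'⟩ := hev hS'
    have hkey : ∀ U : Finset GolayPt, U.prod f = 1 → 2 ∣ U.card → U.card ≤ 6 → U = ∅ :=
      fun U h1 h2 h6 => h.small h2 h6 h1
    have hU1 : (val (S, bo) ∆ val (S', bo')).prod f = 1 := by rw [h.prod_symmDiff, heq, h.sq]
    have hcard : ∀ s t : Finset GolayPt, 2 ∣ s.card → 2 ∣ t.card → 2 ∣ (s ∆ t).card := by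
      intro s t hs ht
      rw [show s ∆ t = (s \ t) ∪ (t \ s) from rfl, Finset.card_union_of_disjoint disjoint_sdiff_sdiff]
      have := Finset.card_sdiff_add_card_inter s t
      have := Finset.card_sdiff_add_card_inter t s
      rw [Finset.inter_comm t s] at this
      omega
    have hD : ev S ∆ ev S' ⊆ F0.erase q := fun y hy => by
      rcases Finset.mem_symmDiff.1 hy with ⟨h1, -⟩ | ⟨h1, -⟩
      exacts [hsub h1, hsub' h1]
    have hD6 : (ev S ∆ ev S').card ≤ 6 := by
      have := Finset.card_le_card hD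
      rw [Finset.card_erase_of_mem hqF, h8] at this
      obtain ⟨k, hk⟩ := hcard _ _ h2 h2'
      omega
    have hsame : ev S ∆ ev S' = ∅ → S = S' := fun h0 => by
      rw [← he, ← he', symmDiff_eq_bot.1 h0]
    have hdisP : ∀ {T : Finset GolayPt}, T ⊆ F0.erase q → Disjoint T P := fun {T} hT =>
      Finset.disjoint_of_subset_left (hT.trans (Finset.erase_subset _ _)) hPF.symm
    have hmix : ∀ S S' : Finset GolayPt, ev S ⊆ F0.erase q → ev S' ⊆ F0.erase q → 2 ∣ (ev S).card →
        2 ∣ (ev S').card → (ev S ∆ ev S').card ≤ 6 → ((ev S ∪ P) ∆ ev S').prod f = 1 → False := by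
      intro S S' hs hs' k2 k2' k6 h1
      have hU : (ev S ∪ P) ∆ ev S' = ev S ∆ ev S' ∪ P :=
        (symmDiff_facts _ _ P F0 (hdisP hs) (hdisP hs')).1
      set T := ev S ∆ ev S'
      have hT : T ⊆ F0.erase q := fun y hy => by
        rcases Finset.mem_symmDiff.1 hy with ⟨h1', -⟩ | ⟨h1', -⟩
        exacts [hs h1', hs' h1']
      rw [hU] at h1
      have hTP : (T ∪ P).card = T.card + 2 := by rw [Finset.card_union_of_disjoint (hdisP hT), hP2]
      have hk : 2 ∣ T.card := hcard _ _ k2 k2'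
      by_cases h6 : T.card + 2 ≤ 6
      · have := congrArg Finset.card (hkey _ h1 (by rw [hTP]; omega) (by omega))
        rw [hTP, Finset.card_empty] at this
        omega
      · have hT6 : T.card = 6 := by omega
        have e2 : (T ∪ P) ∆ F0 = (F0 \ T) ∪ P :=
          (symmDiff_facts _ _ P F0 (hdisP hT) (hdisP hT)).2.2 hPF (hT.trans (Finset.erase_subset _ _))
        have c4 : ((F0 \ T) ∪ P).card = 4 := by
          rw [Finset.card_union_of_disjoint (Finset.disjoint_of_subset_left Finset.sdiff_subset hPF.symm), hP2,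
            Finset.card_sdiff_of_subset (hT.trans (Finset.erase_subset _ _)), h8, hT6]
        have := congrArg Finset.card (hkey _ (show ((F0 \ T) ∪ P).prod f = 1 by
          rw [← e2, h.prod_symmDiff, h1, hF1, one_mul]) (by rw [c4]; norm_num) (by omega))
        rw [c4, Finset.card_empty] at this
        omega
    cases bo <;> cases bo' <;>
      simp only [val, Bool.false_eq_true, if_false, if_true] at hU1
    · exact Prod.ext (hsame (hkey _ hU1 (hcard _ _ h2 h2') hD6)) rfl
    · exact (hmix S' S hsub' hsub h2' h2 (by rwa [symmDiff_comm]) (by rwa [symmDiff_comm])).elim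
    · exact (hmix S S' hsub hsub' h2 h2' hD6 hU1).elim
    · have e1 : (ev S ∪ P) ∆ (ev S' ∪ P) = ev S ∆ ev S' :=
        (symmDiff_facts _ _ P F0 (hdisP hsub) (hdisP hsub')).2.1
      rw [e1] at hU1
      exact Prod.ext (hsame (hkey _ hU1 (hcard _ _ h2 h2') hD6)) rfl
  have hfix : ∀ i : {S // S ∈ R.powerset} × Bool, α ((val (i.1.1, i.2)).prod f) = (val (i.1.1, i.2)).prod f :=
    fun i => by
      obtain ⟨h2, himg⟩ := hval (i.1.1, i.2) (Finset.mem_powerset.1 i.1.2)
      rw [← h.prod_image_perm e h2, himg]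
  refine le_trans (le_of_eq ?_) (Nat.card_le_card_of_injective
    (fun i : {S // S ∈ R.powerset} × Bool => (⟨_, hfix i⟩ : {x : B // α x = x})) fun i j e' => ?_)
  · rw [Nat.card_prod, Nat.card_eq_fintype_card, Fintype.card_coe, Finset.card_powerset, hR6,
      Nat.card_eq_fintype_card, Fintype.card_bool]
    norm_num
  · have := hinj _ _ (Finset.mem_powerset.1 i.1.2) (Finset.mem_powerset.1 j.1.2) (congrArg Subtype.val e')
    simp only [Prod.mk.injEq] at this
    exact Prod.ext (Subtype.ext this.1) this.2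

end Code

variable {G : Type*} [Group G] [Finite G]

/-- A labelling of the pair elements gives a frame. -/
theorem exists_frame {z : G} {A : Subgroup G} (hA : Cfsg.IsElementaryAbelian 2 A) (hcard : Nat.card A = 2 ^ 11)
    (hcent : ∀ k : G, (∀ a ∈ A, k * a = a * k) → k ∈ A)
    (huniq : ∀ g : G, (∀ a ∈ A, g * a * g⁻¹ ∈ normalizer (A : Set G)) → g ∈ normalizer (A : Set G))
    (hcent2 : ∀ x ∈ A, ∀ y ∈ A, x ≠ 1 → ¬ IsConj z x → IsConj z y → ∀ g : G, g * x = x * g → g * y = y * g →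
      g ∈ normalizer (A : Set G))
    {Ω : Type*} [Fintype Ω] [DecidableEq Ω] (f₀ : Ω → G) (hΩ : Fintype.card Ω = 24) (hmem : ∀ a, f₀ a ∈ A)
    (hcount : ({x | x ∈ A ∧ x ≠ 1 ∧ ¬ IsConj z x} : Set G).ncard = 276)
    (hdeg : ∀ d, d ∈ A → d ≠ 1 → ¬ IsConj z d →
      ({e | (e ∈ A ∧ e ≠ 1 ∧ ¬ IsConj z e) ∧ (d * e ∈ A ∧ d * e ≠ 1 ∧ ¬ IsConj z (d * e))} : Set G).ncard = 44)
    (hpair : ∀ a b, a ≠ b → f₀ a * f₀ b ≠ 1 ∧ ¬ IsConj z (f₀ a * f₀ b))
    (hcover : ∀ x ∈ A, x ≠ 1 → ¬ IsConj z x → ∃ a b, a ≠ b ∧ f₀ a * f₀ b = x) :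
    ∃ f ψ, Frame z A f ψ := by
  classical
  have hcomm : ∀ {x y : G}, x ∈ A → y ∈ A → x * y = y * x := fun {x y} hx hy =>
    congrArg Subtype.val (hA.1.is_comm.comm ⟨x, hx⟩ ⟨y, hy⟩)
  have hsq : ∀ {x : G}, x ∈ A → x * x = 1 := fun {x} hx => by rw [← sq]; exact hA.2 x hx
  letI : CommGroup ↥A := { (inferInstance : Group ↥A) with
    mul_comm := fun a b => Subtype.ext (hcomm a.2 b.2) }
  let N₀ : Set ↥A := {x | (x : G) ≠ 1 ∧ ¬ IsConj z (x : G)}
  have himg : ∀ S : Set G, S ⊆ (A : Set G) → ((Subtype.val : ↥A → G) ⁻¹' S).ncard = S.ncard := fun S hS =>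
    Set.ncard_preimage_of_injective_subset_range Subtype.val_injective fun x hx => ⟨⟨x, hS hx⟩, rfl⟩
  have hP₀ : Pairing N₀ (fun a => (⟨f₀ a, hmem a⟩ : ↥A)) := by
    refine ⟨fun x => Subtype.ext (hsq x.2), hcard, hΩ, ?_, fun d hd => ?_, fun h => h.1 rfl,
      fun a b hab => hpair a b hab, fun x hx => ?_⟩
    · rw [show N₀ = (Subtype.val : ↥A → G) ⁻¹' {x | x ∈ A ∧ x ≠ 1 ∧ ¬ IsConj z x} from
        Set.ext fun x => ⟨fun h => ⟨x.2, h⟩, fun h => h.2⟩, himg _ fun x hx => hx.1, hcount]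
    · have hd' : (d : G) ≠ 1 ∧ ¬ IsConj z (d : G) := hd
      rw [show {e | e ∈ N₀ ∧ d * e ∈ N₀} = (Subtype.val : ↥A → G) ⁻¹' {e | (e ∈ A ∧ e ≠ 1 ∧ ¬ IsConj z e) ∧
        ((d : G) * e ∈ A ∧ (d : G) * e ≠ 1 ∧ ¬ IsConj z ((d : G) * e))} from
        Set.ext fun e => ⟨fun h => ⟨⟨e.2, h.1⟩, mul_mem d.2 e.2, h.2⟩, fun h => ⟨h.1.2, h.2.2⟩⟩,
        himg _ fun x hx => hx.1.1, hdeg _ d.2 hd'.1 hd'.2]
    · obtain ⟨a, b, hab, e⟩ := hcover _ x.2 hx.1 hx.2
      exact ⟨a, b, hab, Subtype.ext e⟩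
  obtain ⟨e, he⟩ := CfsgLib.Golay.iso_octads hP₀.cardPts hP₀.steiner
  let f' : GolayPt → ↥A := fun p => ⟨f₀ (e.symm p), hmem _⟩
  have hP : Pairing N₀ f' := by
    refine ⟨hP₀.sq, hP₀.cardB, by rw [← Fintype.card_congr e]; exact hΩ, hP₀.count, hP₀.degree, hP₀.one_notMem,
      fun a b hab => hP₀.pair _ _ (fun h => hab (e.symm.injective h)), fun x hx => ?_⟩
    obtain ⟨a, b, hab, ex⟩ := hP₀.cover x hx
    exact ⟨e a, e b, fun h => hab (e.injective h), by simp only [f', Equiv.symm_apply_apply]; exact ex⟩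
  have hblk : {b : Finset GolayPt | b.card = 8 ∧ b.prod f' = 1} = octads := by
    rw [← he]
    ext b
    constructor
    · rintro ⟨h8, h1⟩
      refine ⟨b.image e.symm, ⟨?_, ?_⟩, ?_⟩
      · rw [Finset.card_image_of_injective _ e.symm.injective, h8]
      · rw [Finset.prod_image fun x _ y _ h => e.symm.injective h]; exact h1
      · show (b.image e.symm).image e = b
        rw [Finset.image_image]
        simp
    · rintro ⟨c, ⟨h8, h1⟩, rfl⟩
      refine ⟨by rw [Finset.card_image_of_injective _ e.injective, h8], ?_⟩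
      rw [Finset.prod_image fun x _ y _ h => e.injective h]
      simpa only [f', Equiv.symm_apply_apply] using h1
  set N := normalizer (A : Set G)
  have hmemN : ∀ (m : ↥N) {x : G}, x ∈ A → (m : G) * x * (m : G)⁻¹ ∈ A := fun m {x} hx =>
    (mem_normalizer_iff.1 m.2 x).1 hx
  let ρ : ↥N → (↥A ≃* ↥A) := fun m =>
    { toFun := fun x => ⟨(m : G) * x * (m : G)⁻¹, hmemN m x.2⟩
      invFun := fun x => ⟨(m⁻¹ : ↥N) * x * ((m⁻¹ : ↥N) : G)⁻¹, hmemN m⁻¹ x.2⟩
      left_inv := fun x => Subtype.ext (by simp [mul_assoc])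
      right_inv := fun x => Subtype.ext (by simp [mul_assoc])
      map_mul' := fun x y => Subtype.ext (by simp [mul_assoc]) }
  have hρN : ∀ m x, ρ m x ∈ N₀ ↔ x ∈ N₀ := by
    intro m x
    show ((m : G) * x * (m : G)⁻¹ ≠ 1 ∧ _) ↔ _
    rw [Ne, conj_eq_one_iff]
    refine and_congr_right fun _ => not_congr ⟨fun h => h.trans (isConj_iff.2 ⟨(m : G), rfl⟩).symm,
      fun h => h.trans (isConj_iff.2 ⟨(m : G), rfl⟩)⟩
  choose g hg using fun m => hP.exists_perm (ρ m) (hρN m)
  let ψ : ↥N →* Equiv.Perm GolayPt := MonoidHom.mk' g fun m m' => hP.perm_unique fun a b => by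
    show f' (g (m * m') a) * f' (g (m * m') b) = f' (g m (g m' a)) * f' (g m (g m' b))
    rw [← hg (m * m'), ← hg m, ← hg m']
    exact Subtype.ext (by simp [ρ, mul_assoc])
  have hrange : ψ.range ≤ Cfsg.M24 := by
    rintro _ ⟨m, rfl⟩
    refine CfsgLib.Golay.smul_octads_mem_M24 _ fun o ho _ => ?_
    rw [← hblk] at ho ⊢
    obtain ⟨h8, h1⟩ := ho
    rw [Finset.smul_finset_def]
    refine ⟨?_, ?_⟩
    · rw [Finset.card_image_of_injective _ (MulAction.injective (ψ m)), h8]
    · show (o.image (g m)).prod f' = 1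
      rw [hP.prod_image_perm (hg m) (by rw [h8]; norm_num), h1, map_one]
  refine ⟨fun p => f₀ (e.symm p), ψ, hA, hcard, fun a => hmem _, huniq,
    fun a b hab => hpair _ _ (fun h => hab (e.symm.injective h)), ?_, ?_, ?_, ?_, ?_, hrange, ?_, hcent2⟩
  · intro x hx hx1 hxz
    obtain ⟨a, b, hab, ex⟩ := hP.cover ⟨x, hx⟩ ⟨hx1, hxz⟩
    exact ⟨a, b, hab, congrArg Subtype.val ex⟩
  · intro a b c d hab hcd h
    have h' : f' a * f' b = f' c * f' d := Subtype.ext h
    have := hP.prod_inj (Finset.card_pair hab) (Finset.card_pair hcd)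
      (by rw [Finset.prod_pair hab, Finset.prod_pair hcd, h'])
    rw [← Finset.coe_inj, Finset.coe_pair, Finset.coe_pair] at this
    exact Set.pair_eq_pair_iff.1 this
  · intro a b c d hac had hbc hbd hab hcd u v huv h
    have h' : f' a * f' b * (f' c * f' d) = f' u * f' v := Subtype.ext h
    have hne : ({a, b} : Finset GolayPt) ≠ {c, d} := fun e' => by
      have : a ∈ ({c, d} : Finset GolayPt) := e' ▸ Finset.mem_insert_self a {b}
      simp [hac, had] at this
    refine (hP.adj_iff (Finset.card_pair hab) (Finset.card_pair hcd) hne).1 ?_ ?_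
    · rw [Finset.prod_pair hab, Finset.prod_pair hcd, h']
      exact hP.pair u v huv
    · simp [hac.symm, had.symm, hbc.symm, hbd.symm]
  · intro m a b
    exact congrArg Subtype.val (hg m a b)
  · intro m
    constructor
    · intro hm
      refine hcent _ fun a ha => ?_
      obtain ⟨s, hs, -, hsx⟩ := hP.exhaust.1 ⟨a, ha⟩
      have h1 : (s.image (g m)).prod f' = ρ m (s.prod f') := hP.prod_image_perm (hg m) hs
      rw [show g m = 1 from hm, hsx] at h1
      have h2 : ρ m ⟨a, ha⟩ = ⟨a, ha⟩ := by rw [← h1]; simpa using hsx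
      exact mul_inv_eq_iff_eq_mul.1 (congrArg Subtype.val h2)
    · intro hm
      refine hP.perm_unique fun a b => ?_
      show f' (g m a) * f' (g m b) = _
      rw [← hg m a b]
      exact Subtype.ext (mul_inv_eq_iff_eq_mul.2 (hcomm hm (mul_mem (f' a).2 (f' b).2)))
  · intro m a ho ha
    refine le_trans (fixed_count hP hblk (hg m) (hrange ⟨m, rfl⟩) ho ha) (le_of_eq (Nat.card_congr
      { toFun := fun x => ⟨((x : ↥A) : G), (x : ↥A).2,
          mem_centralizer_singleton_iff.2 (mul_inv_eq_iff_eq_mul.1 (congrArg Subtype.val x.2)).symm⟩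
        invFun := fun y => ⟨⟨y, y.2.1⟩, Subtype.ext (mul_inv_eq_iff_eq_mul.2
          (mem_centralizer_singleton_iff.1 y.2.2).symm)⟩
        left_inv := fun _ => rfl
        right_inv := fun _ => rfl }))

end CfsgLib.JankoFour.Centraliser
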